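import Groth.Agent.EtTrace.ConstPoint
import Groth.Agent.EtFound.ConstStalk
import Groth.Agent.EtFound.StalkSet
import Groth.Agent.EtFound.PointHom

/-!
# Global sections of constant sheaves on connected schemes
-/

set_option autoImplicit false
universe u

open CategoryTheory CategoryTheory.Limits AlgebraicGeometry Opposite

namespace Groth.Agent.Curve11

open Groth.Agent.EtFound Groth.Agent.EtLC12

set_option backward.isDefEq.respectTransparency.types false
set_option linter.style.haveILetI false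

variable (X : Scheme.{u}) (A : AddCommGrpCat.{u + 1})

/-- the underlying presheaf of a constant sheaf -/
noncomputable abbrev cSh : X.Etaleᵒᵖ ⥤ AddCommGrpCat.{u + 1} :=
  ((presheafToSheaf X.smallEtaleTopology AddCommGrpCat.{u + 1}).obj ((Functor.const X.Etaleᵒᵖ).obj A)).obj

/-- constants as sections of the constant sheaf -/
noncomputable def cSec (U : X.Etale) (m : A) : (cSh X A).obj (op U) :=
  (toSheafify X.smallEtaleTopology ((Functor.const X.Etaleᵒᵖ).obj A)).app (op U) m

variable {X A}

theorem cSec_map {U V : X.Etale} (g : V ⟶ U) (m : A) : (cSh X A).map g.op (cSec X A U m) = cSec X A V m :=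
  (NatTrans.naturality_apply (toSheafify X.smallEtaleTopology ((Functor.const X.Etaleᵒᵖ).obj A)) g.op m).symm

theorem cSec_germ_bijective {Ω : Type u} [Field Ω] [IsSepClosed Ω] (ξ : Spec (CommRingCat.of Ω) ⟶ X)
    (U : X.Etale) (u : (Scheme.pointSmallEtale ξ).fiber.obj U) :
    Function.Bijective (fun m => (Scheme.pointSmallEtale ξ).toPresheafFiber U u (cSh X A) (cSec X A U m)) :=
  toSheafify_const_germ_bijective ξ AddCommGrpCat.{u + 1} A U u

theorem base_top {Ω : Type u} [Field Ω] [IsSepClosed Ω] {ξ : Spec (CommRingCat.of Ω) ⟶ X}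
    (u₀ : (Scheme.pointSmallEtale ξ).fiber.obj (EtCoh.top X)) :
    ptOf u₀ = ξ.base (default : Spec (CommRingCat.of Ω)) :=
  hom_ptOf u₀

/-- the germ of `s` at every geometric point over `x` is the constant `m` -/
def Good (s : (cSh X A).obj (op (EtCoh.top X))) (m : A) (x : X) : Prop :=
  ∀ (Ω : Type u) (_ : Field Ω) (_ : IsSepClosed Ω) (ξ : Spec (CommRingCat.of Ω) ⟶ X)
    (_ : ξ.base (default : Spec (CommRingCat.of Ω)) = x)
    (u₀ : (Scheme.pointSmallEtale ξ).fiber.obj (EtCoh.top X)),
    (Scheme.pointSmallEtale ξ).toPresheafFiber (EtCoh.top X) u₀ (cSh X A) s =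
      (Scheme.pointSmallEtale ξ).toPresheafFiber (EtCoh.top X) u₀ (cSh X A) (cSec X A (EtCoh.top X) m)

theorem exists_good_nhd (s : (cSh X A).obj (op (EtCoh.top X))) (x : X) :
    ∃ (m : A) (O : Set X), IsOpen O ∧ x ∈ O ∧ ∀ y ∈ O, Good s m y := by
  obtain ⟨V, g, v, ⟨m, hm⟩, hv⟩ := (mem_topology_iff _).1
    (Presheaf.imageSieve_mem X.smallEtaleTopology
      (toSheafify X.smallEtaleTopology ((Functor.const X.Etaleᵒᵖ).obj A)) (U := op (EtCoh.top X)) s) x
  have hs : (cSh X A).map g.op s = cSec X A V m := hm.symm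
  refine ⟨m, Set.range g.left.base, ?_, ⟨v, hv⟩, ?_⟩
  · have := etale_left g
    exact g.left.isOpenMap.isOpen_range
  rintro _ ⟨w, rfl⟩ Ω _ _ ξ hξ u₀
  obtain ⟨v', hv', -⟩ := exists_lift_point g u₀ w (hξ.symm.trans (base_top u₀).symm)
  have h := fun t => (Scheme.pointSmallEtale ξ).toPresheafFiber_w_apply g v' (cSh X A) t
  rw [← hv']
  refine (h s).symm.trans ((congrArg _ (hs.trans (cSec_map g m).symm)).trans (h _))

theorem good_unique {s : (cSh X A).obj (op (EtCoh.top X))} {m m' : A} {x : X}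
    (h : Good s m x) (h' : Good s m' x) : m = m' := by
  obtain ⟨Ω, _, _, ξ, hξ⟩ := exists_geomPoint x
  let u₀ : (Scheme.pointSmallEtale ξ).fiber.obj (EtCoh.top X) := CategoryTheory.Over.homMk ξ (Category.comp_id ξ)
  exact (cSec_germ_bijective ξ _ u₀).1 ((h Ω _ inferInstance ξ hξ u₀).symm.trans (h' Ω _ inferInstance ξ hξ u₀))

/-- On a connected scheme, global sections of a constant sheaf are constants. -/
theorem cSec_top_bijective [PreconnectedSpace X] [Nonempty X] :
    Function.Bijective (cSec X A (EtCoh.top X)) := by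
  refine ⟨fun a b h => ?_, fun s => ?_⟩
  · obtain ⟨Ω, _, _, ξ, -⟩ := exists_geomPoint (Classical.arbitrary X)
    exact (cSec_germ_bijective ξ (EtCoh.top X) (CategoryTheory.Over.homMk ξ (Category.comp_id ξ))).1 (congrArg _ h)
  choose f O hO hx hf using exists_good_nhd s
  have hlc : IsLocallyConstant f := (IsLocallyConstant.iff_exists_open _).2 fun x =>
    ⟨O x, hO x, hx x, fun y hy => good_unique (hf y y (hx y)) (hf x y hy)⟩
  refine ⟨f (Classical.arbitrary X), (Sheaf.isSeparated
    ((presheafToSheaf X.smallEtaleTopology AddCommGrpCat.{u + 1}).obj ((Functor.const X.Etaleᵒᵖ).obj A))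
    (EtCoh.top X) _
    (equalizerSieve_mem_of_germs (cSh X A) (EtCoh.top X) (cSec X A (EtCoh.top X) (f (Classical.arbitrary X))) s
      fun Ω _ _ ξ u₀ => ?_) _ _ fun Y g hg => hg)⟩
  rw [← hlc.apply_eq_of_preconnectedSpace (ξ.base default) (Classical.arbitrary X)]
  exact ((hf _ _ (hx _)) Ω _ _ ξ rfl u₀).symm

variable (X A)

/-- On a connected scheme the unit `A ⟶ Γ(X, A)` is bijective. -/
theorem constAdj_unit_bijective [PreconnectedSpace X] [Nonempty X] :
    Function.Bijective ((EtCore.constAdj X).unit.app A) :=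
  cSec_top_bijective

end Groth.Agent.Curve11
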