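import Groth.Agent.Curve11.SuppVanish
import Groth.Agent.EtFound.FieldExt
import Groth.Agent.EtFound.PushExact
import Groth.Agent.EtFound.EdgeVanish
import Groth.Agent.SiteBase.LerayTop
import Groth.Agent.SiteBase.EtExcision.Projection
import Groth.Agent.EtMVLib.HpullApply

/-!
# Cohomology along finite morphisms that are isomorphisms at generic points of a curve
-/

set_option autoImplicit false
universe u

open CategoryTheory CategoryTheory.Limits AlgebraicGeometry Opposite CategoryTheory.Abelian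

namespace Groth.Agent.Curve11

set_option backward.isDefEq.respectTransparency false
set_option backward.isDefEq.respectTransparency.types false
set_option linter.style.haveILetI false

variable {X Z : Scheme.{u}} (f : Z ⟶ X) [IsFinite f]

omit [IsFinite f] in
/-- Over an open where `f` is an isomorphism, a geometric point has exactly one lift. -/
theorem exists_unique_lift (V : X.Opens) [IsIso (f ∣_ V)] {Ω : Type u} [Field Ω] [IsAlgClosed Ω]
    (η : Spec (CommRingCat.of Ω) ⟶ X) (hη : η.base (default : Spec (CommRingCat.of Ω)) ∈ V) :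
    ∃ ξ₀ : Spec (CommRingCat.of Ω) ⟶ Z, ξ₀ ≫ f = η ∧ ∀ ξ, ξ ≫ f = η → ξ = ξ₀ := by
  have hr : Set.range η.base ⊆ Set.range V.ι.base := by
    rintro _ ⟨z, rfl⟩
    rw [Scheme.Opens.range_ι, Subsingleton.elim z default]
    exact hη
  let l := IsOpenImmersion.lift V.ι η hr
  refine ⟨l ≫ inv (f ∣_ V) ≫ (f ⁻¹ᵁ V).ι, ?_, fun ξ hξ => ?_⟩
  · rw [Category.assoc, Category.assoc, ← morphismRestrict_ι, IsIso.inv_hom_id_assoc,
      IsOpenImmersion.lift_fac]
  · have hr' : Set.range ξ.base ⊆ Set.range (f ⁻¹ᵁ V).ι.base := by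
      rintro _ ⟨z, rfl⟩
      rw [Scheme.Opens.range_ι, Subsingleton.elim z default]
      show f.base (ξ.base default) ∈ V
      rw [← Scheme.Hom.comp_apply, hξ]
      exact hη
    let m := IsOpenImmersion.lift (f ⁻¹ᵁ V).ι ξ hr'
    have hm : m ≫ (f ∣_ V) = l := by
      rw [← cancel_mono V.ι, Category.assoc, morphismRestrict_ι, IsOpenImmersion.lift_fac_assoc,
        IsOpenImmersion.lift_fac, hξ]
    rw [← hm, Category.assoc, IsIso.hom_inv_id_assoc, IsOpenImmersion.lift_fac]

/-- The unit of a finite morphism is an isomorphism on stalks over an open where it is one. -/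
theorem isIso_stalk_unit (V : X.Opens) [IsIso (f ∣_ V)] (F : EtCoh.Ab X) (Ω : Type u) [Field Ω]
    [IsSepClosed Ω] (η : Spec (CommRingCat.of Ω) ⟶ X) (hη : η.base (default : Spec (CommRingCat.of Ω)) ∈ V) :
    IsIso ((EtCoh.stalk η).map ((EtCoh.pullPushAdj f).unit.app F)) := by
  let e : Spec (CommRingCat.of (AlgebraicClosure Ω)) ⟶ Spec (CommRingCat.of Ω) :=
    Spec.map (CommRingCat.ofHom (algebraMap Ω (AlgebraicClosure Ω)))
  refine (NatIso.isIso_map_iff (EtFound.stalkExtIso AddCommGrpCat.{u + 1} η e) _).2 ?_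
  obtain ⟨ξ₀, hξ₀, huniq⟩ := exists_unique_lift f V (e ≫ η) (by
    rw [Scheme.Hom.comp_apply, Subsingleton.elim (e.base _) default]
    exact hη)
  have h1 := EtExcision.isIso_unit_pushStalkAt f hξ₀ F
  haveI : IsIso ((EtFound.pushStalkAt f hξ₀).app ((EtCoh.pull f).obj F)) := by
    refine (ConcreteCategory.isIso_iff_bijective _).2 ⟨fun p q h => ?_, fun z => ?_⟩
    · refine (EtFound.pushStalkAt_bijective f (η := e ≫ η) ((EtCoh.pull f).obj F)).1 (funext fun ξ => ?_)
      obtain ⟨ξ, hξ⟩ := ξ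
      obtain rfl := huniq ξ hξ
      exact h
    · obtain ⟨p, hp⟩ := (EtFound.pushStalkAt_bijective f (η := e ≫ η) ((EtCoh.pull f).obj F)).2
        (fun ξ => (huniq ξ.1 ξ.2).symm ▸ z)
      exact ⟨p, (congrFun hp ⟨ξ₀, hξ₀⟩).trans (by simp)⟩
  exact IsIso.of_isIso_comp_right _ ((EtFound.pushStalkAt f hξ₀).app ((EtCoh.pull f).obj F))

variable [PreservesFiniteLimits (EtCoh.pull f)]

omit [IsFinite f] in
/-- The pullback on cohomology is the edge map composed with the unit. -/
theorem Hpull_eq_edge (F : EtCoh.Ab X) (n : ℕ) (a : EtCoh.H X F n) :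
    EtCore.Hpull f F n a = (Ext.mk₀ (EtCore.pullConst f ℤ).inv).comp
      (EtFound.edge (EtCoh.pullPushAdj f) _ ((EtCoh.pull f).obj F) n
        (a.comp (Ext.mk₀ ((EtCoh.pullPushAdj f).unit.app F)) (add_zero n))) (zero_add n) := by
  rw [EtMVLib.Hpull_apply, EtFound.edge_apply, Ext.mapExactFunctor_comp, Ext.mapExactFunctor_mk₀,
    Ext.comp_assoc_of_third_deg_zero, Ext.mk₀_comp_mk₀, Adjunction.left_triangle_components, Ext.comp_mk₀_id]

/-- Finite birational pullback is bijective on cohomology above degree one. -/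
theorem Hpull_bijective {k : Type u} [Field k] [IsSepClosed k] (s : X ⟶ Spec (CommRingCat.of k))
    [LocallyOfFiniteType s] [QuasiCompact s] (hdim : topologicalKrullDim X ≤ 1)
    (V : X.Opens) [IsIso (f ∣_ V)] (hV : genericPoints X ⊆ V) (F : EtCoh.Ab X) (n : ℕ) :
    Function.Bijective (EtCore.Hpull f F (n + 2)) := by
  haveI := EtFound.push_preservesFiniteColimits f
  haveI := EtFound.push_preservesFiniteLimits f
  have hvan : ∀ q, 1 ≤ q → q ≤ n + 2 → IsZero (((EtCoh.push f).rightDerived q).obj ((EtCoh.pull f).obj F)) := by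
    intro q hq _
    obtain ⟨m, rfl⟩ : ∃ m, q = m + 1 := ⟨q - 1, by omega⟩
    exact LerayDegen.isZero_rightDerived_of_exact (EtCoh.push f) _ m
  have hφ := comp_bijective (F := F) s ((EtCoh.pullPushAdj f).unit.app F)
    (fun Ω _ _ η hη => isIso_stalk_unit f V F Ω η (hV hη)) hdim n
  have hedge := (EtFound.edge_bijective_of_vanish (EtCoh.pullPushAdj f) (n + 2) ((EtCoh.pull f).obj F) hvan
    ((constantSheaf X.smallEtaleTopology AddCommGrpCat.{u + 1}).obj (AddCommGrpCat.of (ULift.{u + 1} ℤ)))).1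
      (n + 2) le_rfl
  have hpre : Function.Bijective (fun t : Ext _ ((EtCoh.pull f).obj F) (n + 2) =>
      (Ext.mk₀ (EtCore.pullConst f ℤ).inv).comp t (zero_add (n + 2))) :=
    Function.bijective_iff_has_inverse.2 ⟨fun t => (Ext.mk₀ (EtCore.pullConst f ℤ).hom).comp t (zero_add _),
      fun t => by simp only; rw [Ext.mk₀_comp_mk₀_assoc, Iso.hom_inv_id, Ext.mk₀_id_comp],
      fun t => by simp only; rw [Ext.mk₀_comp_mk₀_assoc, Iso.inv_hom_id, Ext.mk₀_id_comp]⟩
  rw [show ⇑(EtCore.Hpull f F (n + 2)) = _ from funext (Hpull_eq_edge f F (n + 2))]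
  exact hpre.comp (hedge.comp hφ)

end Groth.Agent.Curve11
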