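import Groth.Agent.EtDiv.BrInj
import Groth.Agent.S0229
import Groth.Agent.S0171
import Groth.Agent.VarDim.Top

/-!
# Cohomology of `Gm` on curves over algebraically closed fields
-/

set_option autoImplicit false
universe u

open CategoryTheory CategoryTheory.Limits AlgebraicGeometry Opposite CategoryTheory.Abelian

namespace Groth.Agent.Curve11

open Groth.Agent.EtFound Groth.Agent.EtTrace Groth.Agent.EtDiv Groth.Agent.EtLC12 Groth.Agent.EtMVLib Groth.Agent.MorLib.Birat

set_option backward.isDefEq.respectTransparency false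
set_option backward.isDefEq.respectTransparency.types false
set_option linter.style.haveILetI false

variable {X Z : Scheme.{u}}

/-- No higher Ext out of free sheaves on quasi-compact quasi-separated objects. -/
def IsQcqsAcyclic (G : EtCoh.Ab Z) : Prop :=
  ∀ W : Z.Etale, IsQcqsObj W → ∀ n : ℕ, Subsingleton (Ext.{u + 1} (freeOn W) G (n + 1))

theorem subsingleton_ext_of_dimShift {P : EtCoh.Ab Z} {S : ShortComplex (EtCoh.Ab Z)} (hS : S.ShortExact)
    [Injective S.X₂] {n : ℕ} (h : Subsingleton (Ext.{u + 1} P S.X₁ (n + 1 + 1))) :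
    Subsingleton (Ext.{u + 1} P S.X₃ (n + 1)) := by
  refine subsingleton_of_forall_eq 0 fun x => ?_
  obtain ⟨y, rfl⟩ := Ext.covariant_sequence_exact₃ _ hS x (rfl : n + 1 + 1 = n + 1 + 1) (Subsingleton.elim _ _)
  rw [Ext.eq_zero_of_injective y, Ext.zero_comp]

theorem IsQcqsAcyclic.dimShift {S : ShortComplex (EtCoh.Ab Z)} (hS : S.ShortExact) [Injective S.X₂]
    (h : IsQcqsAcyclic S.X₁) : IsQcqsAcyclic S.X₃ :=
  fun W hW n => subsingleton_ext_of_dimShift hS (h W hW (n + 1))

theorem subsingleton_spec_of_isField (R : CommRingCat.{u}) (h : IsField R) : Subsingleton (Spec R) := by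
  letI := h.toField
  exact inferInstanceAs (Subsingleton (PrimeSpectrum R))

variable (f : Z ⟶ X) [QuasiCompact f] [QuasiSeparated f]

theorem isZero_Rpush_of_acyclic : ∀ (q : ℕ) (G : EtCoh.Ab Z), IsQcqsAcyclic G →
    IsZero ((EtCoh.Rpush f (q + 1)).obj G) := by
  intro q
  induction q with
  | zero => exact fun G hG => isZero_Rpush_one f G fun W hW => hG W hW 0
  | succ q ih =>
    intro G hG
    obtain ⟨S₀, hS₀, hI, rfl⟩ : ∃ S : ShortComplex (EtCoh.Ab Z), S.ShortExact ∧ Injective S.X₂ ∧ S.X₁ = G :=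
      ⟨injSES G, injSES_shortExact G, inferInstanceAs (Injective (Injective.under G)), rfl⟩
    exact isZero_rightDerived_succ_left (EtCoh.push f) hS₀ (q + 1) (ih _ (hG.dimShift hS₀))

theorem subsingleton_H_push_of_acyclic : ∀ (p : ℕ) (G : EtCoh.Ab Z), IsQcqsAcyclic G →
    (∀ n : ℕ, Subsingleton (EtCoh.H Z G (n + 1))) → Subsingleton (EtCoh.H X ((EtCoh.push f).obj G) (p + 1)) := by
  haveI := pull_preservesFiniteLimits f
  haveI : PreservesFiniteLimits (EtCoh.push f) := push_preservesFiniteLimits f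
  intro p
  induction p with
  | zero =>
    exact fun G _ hH => ⟨fun a b => hofPush_one_injective f G (@Subsingleton.elim _ (hH 0) _ _)⟩
  | succ p ih =>
    intro G hG hH
    obtain ⟨S₀, hS₀, hI, rfl⟩ : ∃ S : ShortComplex (EtCoh.Ab Z), S.ShortExact ∧ Injective S.X₂ ∧ S.X₁ = G :=
      ⟨injSES G, injSES_shortExact G, inferInstanceAs (Injective (Injective.under G)), rfl⟩
    have hP := map_shortExact_of_isZero (EtCoh.push f) hS₀ (isZero_Rpush_of_acyclic f 0 _ hG)
    haveI : Injective (S₀.map (EtCoh.push f)).X₂ :=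
      Injective.injective_of_adjoint (EtCoh.pullPushAdj f) S₀.X₂
    have h3 := ih S₀.X₃ (hG.dimShift hS₀) fun n => subsingleton_ext_of_dimShift hS₀ (hH (n + 1))
    refine subsingleton_of_forall_eq 0 fun x => ?_
    obtain ⟨y, rfl⟩ := Ext.covariant_sequence_exact₁ _ hP x
      (Ext.eq_zero_of_injective _) (rfl : p + 1 + 1 = p + 1 + 1)
    rw [@Subsingleton.elim _ h3 y 0, Ext.zero_comp]

omit [QuasiCompact f] [QuasiSeparated f]

theorem subsingleton_ext_Gm_all (W : X.Etale) (n : ℕ)
    [Subsingleton (EtCoh.H W.left (EtCoh.Gm W.left) n)] :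
    Subsingleton (Ext.{u + 1} (freeOn W) (EtCoh.Gm X) n) := by
  haveI : AlgebraicGeometry.Etale W.hom := W.prop
  haveI : PreservesFiniteLimits (EtCoh.pull W.hom) := pull_preservesFiniteLimits W.hom
  haveI : IsIso (𝟙 W.left) := IsIso.id _
  have hb := (postcomp_bijective (pullGmIso W.hom).hom n).comp
    (ptMap_bijective W.hom W (𝟙 W.left) (Category.id_comp _) (EtCoh.Gm X) n)
  exact ⟨fun a b => hb.1 (Subsingleton.elim (α := EtCoh.H W.left (EtCoh.Gm W.left) n) _ _)⟩

section Field

variable (k : Type u) [Field k] [IsAlgClosed k] {K : Type u} [Field K] [Algebra k K]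

theorem isQcqsAcyclic_Gm_field (hK : Algebra.trdeg k K = 1) :
    IsQcqsAcyclic (EtCoh.Gm (Spec (CommRingCat.of K))) := fun W hW n => by
  haveI : CompactSpace W.left := hW.1
  refine subsingleton_ext_of_points _ (n + 1) (fun L _ _ _ _ => ?_) W
  letI : Algebra k L := ((algebraMap K L).comp (algebraMap k K)).toAlgebra
  haveI : IsScalarTower k K L := IsScalarTower.of_algebraMap_eq' rfl
  have hL : Algebra.trdeg k L = 1 := by
    rw [← trdeg_add_eq k K, hK, trdeg_eq_zero, add_zero]
  haveI : Subsingleton (EtCoh.H (obj K L).left (EtCoh.Gm (obj K L).left) (n + 1)) :=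
    S0229.result k L hL (n + 1) n.succ_pos
  exact subsingleton_ext_Gm_all (obj K L) (n + 1)

end Field

section Curve

variable {k : Type u} [Field k] [IsAlgClosed k] (s : X ⟶ Spec (CommRingCat.of k))
  [LocallyOfFiniteType s] [QuasiCompact s] [IsIntegral X]

include s in
theorem isNoetherian_curve : AlgebraicGeometry.IsNoetherian X :=
  haveI : IsLocallyNoetherian X := LocallyOfFiniteType.isLocallyNoetherian s
  haveI : CompactSpace X := QuasiCompact.compactSpace_of_compactSpace s
  ⟨⟩

include s in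
theorem quasiCompact_fromSpecStalk_generic :
    QuasiCompact (X.fromSpecStalk (genericPoint X)) ∧ QuasiSeparated (X.fromSpecStalk (genericPoint X)) := by
  haveI := isNoetherian_curve s
  haveI : QuasiCompact (X.fromSpecStalk (genericPoint X) ≫ terminal.from X) := inferInstance
  exact ⟨QuasiCompact.of_comp (X.fromSpecStalk (genericPoint X)) (terminal.from X),
    QuasiSeparated.of_comp _ (terminal.from X)⟩

omit [QuasiCompact s] in
include s in
theorem exists_trdeg_functionField (hdim : topologicalKrullDim X = 1) :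
    ∃ _ : Algebra k X.functionField, Algebra.trdeg k X.functionField = 1 := by
  have h := VarDim.topologicalKrullDim_eq_deg_genericPoint s
  rw [hdim] at h
  have h1 : VarDim.deg s (genericPoint X) = 1 := by exact_mod_cast h.symm
  have h2 := VarDim.deg_eq_tdeg s (genericPoint X)
  rw [h1, Nat.cast_one] at h2
  letI : Algebra k (X.residueField (genericPoint X)) := (VarDim.resHom s (genericPoint X)).toAlgebra
  letI alg : Algebra k X.functionField :=
    ((X.presheaf.germ ⊤ (genericPoint X) trivial).hom.comp (VarDim.baseMap s)).toAlgebra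
  have hb : Function.Bijective (X.residue (genericPoint X)).hom :=
    ⟨RingHom.injective (X.residue (genericPoint X)).hom, Ideal.Quotient.mk_surjective⟩
  let e : X.functionField ≃ₐ[k] X.residueField (genericPoint X) :=
    AlgEquiv.ofRingEquiv (f := RingEquiv.ofBijective _ hb) fun _ => rfl
  exact ⟨alg, e.trdeg_eq.trans h2.symm⟩

include s in
theorem isQcqsAcyclic_Gm_generic (hdim : topologicalKrullDim X = 1) :
    IsQcqsAcyclic (EtCoh.Gm (Spec (X.presheaf.stalk (genericPoint X)))) ∧
      ∀ n : ℕ, Subsingleton (EtCoh.H (Spec (X.presheaf.stalk (genericPoint X)))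
        (EtCoh.Gm (Spec (X.presheaf.stalk (genericPoint X)))) (n + 1)) := by
  obtain ⟨alg, hK⟩ := exists_trdeg_functionField s hdim
  exact ⟨isQcqsAcyclic_Gm_field k (K := X.functionField) hK,
    fun n => S0229.result k X.functionField hK (n + 1) n.succ_pos⟩

include s in
theorem isZero_Rpush_Gm_generic (hdim : topologicalKrullDim X = 1) (q : ℕ) (hq : 1 ≤ q) :
    IsZero ((EtCoh.Rpush (X.fromSpecStalk (genericPoint X)) q).obj
      (EtCoh.Gm (Spec (X.presheaf.stalk (genericPoint X))))) := by
  obtain ⟨q, rfl⟩ : ∃ r, q = r + 1 := ⟨q - 1, by omega⟩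
  haveI := (quasiCompact_fromSpecStalk_generic s).1
  haveI := (quasiCompact_fromSpecStalk_generic s).2
  exact isZero_Rpush_of_acyclic _ q _ (isQcqsAcyclic_Gm_generic s hdim).1

include s in
theorem subsingleton_H_push_Gm_generic (hdim : topologicalKrullDim X = 1) (p : ℕ) (hp : 1 ≤ p) :
    Subsingleton (EtCoh.H X ((EtCoh.push (X.fromSpecStalk (genericPoint X))).obj
      (EtCoh.Gm (Spec (X.presheaf.stalk (genericPoint X))))) p) := by
  obtain ⟨p, rfl⟩ : ∃ r, p = r + 1 := ⟨p - 1, by omega⟩
  haveI := (quasiCompact_fromSpecStalk_generic s).1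
  haveI := (quasiCompact_fromSpecStalk_generic s).2
  exact subsingleton_H_push_of_acyclic _ p _ (isQcqsAcyclic_Gm_generic s hdim).1
    (isQcqsAcyclic_Gm_generic s hdim).2

include s in
theorem subsingleton_H_Gm (hdim : topologicalKrullDim X = 1) (q : ℕ) (hq : 2 ≤ q) :
    Subsingleton (EtCoh.H X (EtCoh.Gm X) q) := by
  classical
  obtain ⟨p, rfl⟩ : ∃ r, q = r + 2 := ⟨q - 2, by omega⟩
  haveI := isNoetherian_curve s
  have hemb : ∀ x : X, (∃ y : X, y ≠ x ∧ y ⤳ x) →
      ∃ t ∈ IsLocalRing.maximalIdeal (X.presheaf.stalk x), t ∈ nonZeroDivisors (X.presheaf.stalk x) := by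
    rintro x ⟨y, hy, hyx⟩
    by_contra hne
    push Not at hne
    have hbot : IsLocalRing.maximalIdeal (X.presheaf.stalk x) = ⊥ := (Submodule.eq_bot_iff _).2 fun t ht => by
      by_contra ht0
      exact hne t ht (mem_nonZeroDivisors_of_ne_zero ht0)
    haveI := subsingleton_spec_of_isField _ (IsLocalRing.isField_iff_maximalIdeal_eq.2 hbot)
    have hr : y ∈ Set.range (X.fromSpecStalk x) := by rw [Scheme.range_fromSpecStalk]; exact hyx
    obtain ⟨z, hz⟩ := hr
    rw [Subsingleton.elim z (IsLocalRing.closedPoint _), Scheme.fromSpecStalk_closedPoint] at hz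
    exact hy hz.symm
  haveI : Mono (toGenS X) :=
    mono_toGenS fun U a ha => eq_zero_of_germs_generic hdim.le hemb U a ha
  let S := ShortComplex.mk (toGenS X) (cokernel.π _) (cokernel.condition (toGenS X))
  have hS : S.ShortExact := { exact := ShortComplex.exact_of_g_is_cokernel _ (cokernelIsCokernel _) }
  have hC : Subsingleton (EtCoh.H X (cokernel (toGenS X)) (p + 1)) := by
    refine S0171.result X s _ (fun x hx => ?_) (p + 1) p.succ_pos
    obtain ⟨Ω, _, _, ξ, hξ, hne⟩ := hx
    have he : ξ.base (default : Spec (CommRingCat.of Ω)) = x := by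
      have h := Set.mem_range_self (f := ξ.base) (default : Spec (CommRingCat.of Ω))
      rw [hξ] at h
      exact h
    refine isClosed_of_notMem_genericPoints hdim.le fun hgen => hne ?_
    exact isZero_stalk_cokernel_toGenS ξ (he.symm ▸ hgen)
  refine subsingleton_of_forall_eq 0 fun ξ => ?_
  let f := fun η : Gen X => (EtCoh.push (X.fromSpecStalk η.1)).obj (EtCoh.Gm (Spec (X.presheaf.stalk η.1)))
  have hη : ∀ η : X, η ∈ genericPoints X → Subsingleton (EtCoh.H X
      ((EtCoh.push (X.fromSpecStalk η)).obj (EtCoh.Gm (Spec (X.presheaf.stalk η)))) (p + 2)) := by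
    intro η hη
    obtain rfl : η = genericPoint X :=
      (eq_of_specializes_generic hη (genericPoint_specializes η)).symm
    exact subsingleton_H_push_Gm_generic s hdim _ (by omega)
  have h0 : ξ.comp (Ext.mk₀ (toGenS X)) (add_zero (p + 2)) = 0 := by
    rw [← Ext.comp_mk₀_id (ξ.comp _ _), show 𝟙 (genS X) = ∑ η, biproduct.π f η ≫ biproduct.ι f η from
      biproduct.hom_ext _ _ fun j => by
        rw [Category.id_comp, Preadditive.sum_comp, Finset.sum_eq_single j]
        · exact ((Category.assoc _ _ _).trans ((congrArg _ (biproduct.ι_π_self f j)).trans (Category.comp_id _))).symm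
        · exact fun x _ hx => (Category.assoc _ _ _).trans ((congrArg _ (biproduct.ι_π_ne f hx)).trans comp_zero)
        · exact fun h => absurd (Finset.mem_univ j) h, Ext.mk₀_sum, Ext.comp_sum]
    refine Finset.sum_eq_zero fun η _ => ?_
    rw [← Ext.mk₀_comp_mk₀, ← Ext.comp_assoc_of_third_deg_zero,
      @Subsingleton.elim _ (hη η.1 η.2) ((ξ.comp (Ext.mk₀ (toGenS X)) (add_zero (p + 2))).comp
        (Ext.mk₀ (biproduct.π f η)) (add_zero (p + 2))) 0, Ext.zero_comp]
  obtain ⟨c, rfl⟩ := Ext.covariant_sequence_exact₁ _ hS ξ h0 (rfl : p + 1 + 1 = p + 2)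
  rw [@Subsingleton.elim _ hC c 0, Ext.zero_comp]

end Curve

end Groth.Agent.Curve11
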