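import Groth.Agent.Curve11.GmCoh
import Groth.Agent.InvUfdLib.Trivial
import Groth.Agent.PicClLib.Basic
import Groth.Agent.GmH1Lib.Units
import Groth.Agent.EtTrace.Kummer
import Groth.Agent.S13507

/-!
# `μ_n` on curves with trivial Picard group, and on the affine line
-/

set_option autoImplicit false
universe u

open CategoryTheory CategoryTheory.Limits AlgebraicGeometry Opposite CategoryTheory.Abelian Polynomial

namespace Groth.Agent.Curve11

open Groth.Agent.EtFound Groth.Agent.EtTrace Groth.Agent.EtLC12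

set_option backward.isDefEq.respectTransparency false
set_option backward.isDefEq.respectTransparency.types false
set_option linter.style.haveILetI false

section Units

variable {X : Scheme.{u}}

/-- divisible units give divisible degree zero cohomology of `G_m` -/
theorem exists_nsmul_H0_Gm (n : ℕ) (hdiv : ∀ u : Γ(X, ⊤)ˣ, ∃ v, v ^ n = u) (y : EtCoh.H X (EtCoh.Gm X) 0) :
    ∃ y' : EtCoh.H X (EtCoh.Gm X) 0, n • y' = y := by
  obtain ⟨ψ, rfl⟩ := (Ext.mk₀_bijective _ _).2 y
  obtain ⟨v, hv⟩ := hdiv (GmH1Lib.gv (constVal ψ : (EtCoh.Gm X).obj.obj (op (EtCoh.top X))))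
  let b : (EtCore.gsec X).obj (EtCoh.Gm X) := GmH1Lib.gmk (X := X) (W := EtCoh.top X) v
  have hb : n • b = constVal ψ := by
    refine GmH1Lib.gv_ext (congrArg Units.val (Eq.trans ?_ hv))
    have h : ∀ m : ℕ, GmH1Lib.gv (X := X) (m • b : (EtCoh.Gm X).obj.obj (op (EtCoh.top X))) = v ^ m := by
      intro m
      induction m with
      | zero => rw [pow_zero, zero_nsmul]; exact GmH1Lib.gv_zero
      | succ m ih => rw [pow_succ, succ_nsmul, GmH1Lib.gv_add, ih]; rfl
    exact h n
  refine ⟨Ext.mk₀ (ofVal b), ?_⟩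
  rw [nsmul_eq_comp, Ext.mk₀_comp_mk₀]
  congr 1
  refine (constVal_bijective _).1 ?_
  rw [constVal_comp, constVal_ofVal, ← hb]
  exact (nsmul_hom_app (𝟙 (EtCoh.Gm X)) n (EtCoh.top X) b).trans rfl

variable {k : Type u} [Field k] [IsAlgClosed k] (s : X ⟶ Spec (CommRingCat.of k))
  [LocallyOfFiniteType s] [QuasiCompact s] [IsIntegral X]

include s in
/-- on an integral curve with trivial Picard group and divisible units, `μ_n` is acyclic -/
theorem subsingleton_H_mu_of_pic_trivial (hdim : topologicalKrullDim X = 1) (n : ℕ)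
    (hn : IsUnit (n : Γ(X, ⊤)))
    (hpic : ∀ L : X.Modules, PicF.IsInvertible L → Nonempty (L ≅ Coh.structureModule X))
    (hdiv : ∀ u : Γ(X, ⊤)ˣ, ∃ v, v ^ n = u) (m : ℕ) :
    Subsingleton (EtCoh.H X (EtCoh.mu X n) (m + 1)) := by
  haveI := S0108.result X n hn
  let S := ShortComplex.mk (EtCoh.muι X n) (EtCoh.powMap X n) (kernel.condition _)
  have hS : S.ShortExact :=
    { exact := ShortComplex.exact_of_f_is_kernel _ (kernelIsKernel _)
      mono_f := inferInstanceAs (Mono (kernel.ι _))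
      epi_g := S0108.result X n hn }
  have h1 : ∀ q, Subsingleton (EtCoh.H X (EtCoh.Gm X) (q + 1)) := fun q => by
    match q with
    | 0 => exact (GmH1Lib.subsingleton_H1_Gm_iff X).2 hpic
    | q + 1 => exact subsingleton_H_Gm s hdim (q + 2) (by omega)
  refine subsingleton_of_forall_eq 0 fun x => ?_
  obtain ⟨y, hy⟩ := Ext.covariant_sequence_exact₁ _ hS x (@Subsingleton.elim _ (h1 m) _ _) (rfl : m + 1 = m + 1)
  obtain ⟨y', rfl⟩ : ∃ y' : EtCoh.H X (EtCoh.Gm X) m, y'.comp (Ext.mk₀ S.g) (add_zero m) = y := by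
    match m, y with
    | 0, y =>
      obtain ⟨y', hy'⟩ := exists_nsmul_H0_Gm n hdiv y
      exact ⟨y', ((nsmul_eq_comp y' n).symm.trans hy')⟩
    | q + 1, y => exact ⟨0, @Subsingleton.elim _ (h1 q) _ _⟩
  rw [← hy, Ext.comp_assoc _ _ _ (add_zero m) (zero_add 1) (by omega), hS.comp_extClass, Ext.comp_zero]

end Units

/-- isomorphic schemes have trivial invertible modules together -/
theorem pic_trivial_of_iso {X Y : Scheme.{u}} (e : X ≅ Y)
    (hY : ∀ L : Y.Modules, PicF.IsInvertible L → Nonempty (L ≅ Coh.structureModule Y))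
    (L : X.Modules) (hL : PicF.IsInvertible L) : Nonempty (L ≅ Coh.structureModule X) := by
  obtain ⟨a⟩ := hY _ (PicClLib.isInvertible_pullback e.inv hL)
  obtain ⟨b⟩ := PicClLib.nonempty_pullback_structureModule e.hom
  exact ⟨((Scheme.Modules.pullbackId X).app L).symm ≪≫
    (Scheme.Modules.pullbackCongr e.hom_inv_id.symm).app L ≪≫
    ((Scheme.Modules.pullbackComp e.hom e.inv).app L).symm ≪≫
    (Scheme.Modules.pullback e.hom).mapIso a ≪≫ b⟩

theorem topologicalKrullDim_affineLine (k : Type u) [Field k] :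
    topologicalKrullDim (Spec (CommRingCat.of k[X])) = 1 := by
  show topologicalKrullDim (PrimeSpectrum k[X]) = 1
  rw [PrimeSpectrum.topologicalKrullDim_eq_ringKrullDim, Polynomial.ringKrullDim_of_isNoetherianRing,
    ringKrullDim_eq_zero_of_field, zero_add]

theorem subsingleton_H_mu_affineLine (k : Type u) [Field k] [IsAlgClosed k] (n : ℕ) (hn : (n : k) ≠ 0) (m : ℕ) :
    Subsingleton (EtCoh.H (Spec (CommRingCat.of k[X])) (EtCoh.mu (Spec (CommRingCat.of k[X])) n) (m + 1)) := by
  let s : Spec (CommRingCat.of k[X]) ⟶ Spec (CommRingCat.of k) := Spec.map (CommRingCat.ofHom C)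
  haveI : LocallyOfFiniteType s := by
    refine (HasRingHomProperty.Spec_iff (P := @LocallyOfFiniteType)).2 ?_
    exact RingHom.finiteType_algebraMap.2 (inferInstance : Algebra.FiniteType k k[X])
  let P := CommRingCat.of k[X]
  let e := (Scheme.ΓSpecIso P).commRingCatIsoToRingEquiv
  refine subsingleton_H_mu_of_pic_trivial s (topologicalKrullDim_affineLine k) n ?_
    (pic_trivial_of_iso (Spec P).topIso.symm fun L hL => InvUfdLib.nonempty_iso (R := P) ⊤ L hL)
    (fun u => ?_) m
  · rw [← map_natCast e.symm, ← map_natCast (C : k →+* k[X])]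
    exact ((IsUnit.mk0 _ hn).map C).map e.symm
  · obtain ⟨c, hc, hcu⟩ := Polynomial.isUnit_iff.1 (u.isUnit.map e)
    have hn0 : n ≠ 0 := fun h => hn (by rw [h, Nat.cast_zero])
    obtain ⟨d, hd⟩ := IsAlgClosed.exists_pow_nat_eq c (Nat.pos_of_ne_zero hn0)
    have hd0 : IsUnit d := IsUnit.mk0 _ fun h => hc.ne_zero (by rw [← hd, h, zero_pow hn0])
    refine ⟨((hd0.map C).map e.symm).unit, Units.ext ?_⟩
    rw [Units.val_pow_eq_pow_val, IsUnit.unit_spec, ← map_pow, ← map_pow, hd, hcu, RingEquiv.symm_apply_apply]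

end Groth.Agent.Curve11
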