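import Groth.Agent.Curve11.PuncturedConst

/-!
# Cohomology of a constant sheaf extended by zero from a punctured scheme, continued
-/

set_option autoImplicit false
universe u

open CategoryTheory CategoryTheory.Limits AlgebraicGeometry Opposite CategoryTheory.Abelian

namespace Groth.Agent.Curve11

open Groth.Agent.EtFound Groth.Agent.EtTrace Groth.Agent.EtLC12

set_option backward.isDefEq.respectTransparency false
set_option backward.isDefEq.respectTransparency.types false
set_option linter.style.haveILetI false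

variable {k : Type u} [Field k] {X : Scheme.{u}} {n : ℕ}
  (ξ : Fin n → (Spec (CommRingCat.of k) ⟶ X)) (A : AddCommGrpCat.{u + 1})

/-- maps to the skyscrapers given by a tuple of values -/
noncomputable def skyVec (B : AddCommGrpCat.{u + 1}) (v : Fin n → (B ⟶ A)) : (cst X).obj B ⟶ skies ξ A :=
  biproduct.lift fun i => (cst X).map (v i) ≫ toSky (ξ i) A

theorem skyVec_π (B : AddCommGrpCat.{u + 1}) (v : Fin n → (B ⟶ A)) (i : Fin n) :
    skyVec ξ A B v ≫ biproduct.π _ i = (cst X).map (v i) ≫ toSky (ξ i) A :=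
  biproduct.lift_π (fun i => (cst X).map (v i) ≫ toSky (ξ i) A) i

theorem map_toSkies (B : AddCommGrpCat.{u + 1}) (f : B ⟶ A) :
    (cst X).map f ≫ toSkies ξ A = skyVec ξ A B fun _ => f :=
  biproduct.hom_ext _ _ fun i => by rw [Category.assoc, toSkies_π, skyVec_π]

variable [PreconnectedSpace X] [Nonempty X]

omit [Nonempty X] in
theorem skyVec_bijective (B : AddCommGrpCat.{u + 1}) : Function.Bijective (skyVec ξ A B) := by
  refine ⟨fun v w h => funext fun i => (map_toSky_bijective (ξ i) B A).1 ?_, fun g => ?_⟩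
  · show (cst X).map (v i) ≫ toSky (ξ i) A = (cst X).map (w i) ≫ toSky (ξ i) A
    rw [← skyVec_π, h, skyVec_π]
  · choose v hv using fun i => (map_toSky_bijective (ξ i) B A).2 (g ≫ biproduct.π _ i)
    exact ⟨v, biproduct.hom_ext _ _ fun i => (skyVec_π ξ A B v i).trans (hv i)⟩

omit [PreconnectedSpace X] [Nonempty X] in
theorem cst_additive : (cst X).Additive := by
  haveI : PreservesColimitsOfSize.{0, 0} (cst X) := (EtCore.constAdj X).leftAdjoint_preservesColimits
  exact (EtCore.constAdj X).left_adjoint_additive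

theorem skyVec_add (B : AddCommGrpCat.{u + 1}) (v w : Fin n → (B ⟶ A)) :
    skyVec ξ A B (v + w) = skyVec ξ A B v + skyVec ξ A B w := by
  haveI := cst_additive (X := X)
  refine biproduct.hom_ext _ _ fun i => ?_
  rw [Preadditive.add_comp, skyVec_π, skyVec_π, skyVec_π, Pi.add_apply, Functor.map_add, Preadditive.add_comp]

end Groth.Agent.Curve11

namespace Groth.Agent.Curve11

open Groth.Agent.EtFound Groth.Agent.EtTrace Groth.Agent.EtLC12

set_option backward.isDefEq.respectTransparency false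
set_option backward.isDefEq.respectTransparency.types false
set_option linter.style.haveILetI false

variable {k : Type u} [Field k] {X : Scheme.{u}} [PreconnectedSpace X] [Nonempty X] {r : ℕ}
  (ξ : Fin (r + 1) → (Spec (CommRingCat.of k) ⟶ X)) [∀ i, IsClosedImmersion (ξ i)]
  (A : AddCommGrpCat.{u + 1})
  {U : Scheme.{u}} (j : U ⟶ X) [IsOpenImmersion j] [AlgebraicGeometry.Etale j] [EtShriek.JCont j]

/-- a sheaf extended by zero from the complement of `r + 1` points of a connected scheme without higher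
cohomology for `A` has cohomology `A ^ r` in degree one only -/
theorem cohomology_punctured {K : Type u} [Field K] [IsSepClosed K] (s : X ⟶ Spec (CommRingCat.of K))
    [LocallyOfFiniteType s] [QuasiCompact s]
    (hξ : Function.Injective fun i => (ξ i).base (default : Spec (CommRingCat.of k)))
    (hU : Set.range j.base = (⋃ i, Set.range (ξ i).base)ᶜ)
    (hA : ∀ m, Subsingleton (EtCoh.H X ((cst X).obj A) (m + 1))) :
    (∀ q : ℕ, q ≠ 1 → Subsingleton
      (EtCoh.H X ((EtShriek.extZero j).obj ((EtShriek.restrAlong j).obj ((cst X).obj A))) q)) ∧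
    Nonempty (EtCoh.H X ((EtShriek.extZero j).obj ((EtShriek.restrAlong j).obj ((cst X).obj A))) 1 ≃+
      (Fin r → (zGrp.{u} ⟶ A))) := by
  obtain ⟨w, hS⟩ := punctured_shortExact ξ A j hξ hU
  set S := ShortComplex.mk _ _ w
  have hvec := skyVec_bijective ξ A zGrp.{u}
  refine ⟨fun q hq => subsingleton_of_forall_eq 0 fun x => ?_, ?_⟩
  · match q, hq with
    | 0, _ =>
      obtain ⟨g, rfl⟩ := (Ext.mk₀_bijective _ _).2 x
      obtain ⟨f, hf⟩ := (cst_map_bijective X zGrp.{u} A).2 (g ≫ S.f)
      change (cst X).map f = g ≫ S.f at hf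
      have hf0 : f = 0 := by
        have hv : skyVec ξ A zGrp.{u} (fun _ => f) = skyVec ξ A zGrp.{u} 0 := by
          rw [← map_toSkies, hf, Category.assoc]
          show g ≫ S.f ≫ S.g = _
          rw [S.zero, comp_zero]
          refine (biproduct.hom_ext _ _ fun i => ?_).symm
          haveI := cst_additive (X := X)
          rw [skyVec_π, zero_comp, Pi.zero_apply, Functor.map_zero, zero_comp]
        exact congrFun (hvec.1 hv) 0
      haveI := hS.mono_f
      haveI := cst_additive (X := X)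
      have hg : g = 0 := (cancel_mono S.f).1 (by rw [← hf, hf0, Functor.map_zero, zero_comp])
      rw [hg, Ext.mk₀_zero]
    | 1, h => exact absurd rfl h
    | m + 2, _ =>
      obtain ⟨z, hz⟩ := Ext.covariant_sequence_exact₁ _ hS x
        (@Subsingleton.elim _ (hA (m + 1)) _ _) (rfl : m + 1 + 1 = m + 2)
      rw [← hz, @Subsingleton.elim _ (subsingleton_H_skies ξ A s m) z 0, Ext.zero_comp]
  let F := fun y : Fin r → (zGrp.{u} ⟶ A) =>
    (Ext.mk₀ (skyVec ξ A zGrp.{u} (Fin.cons (0 : zGrp.{u} ⟶ A) y))).comp hS.extClass (zero_add 1)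
  have hadd : ∀ y y', F (y + y') = F y + F y' := fun y y' => by
    show (Ext.mk₀ _).comp hS.extClass _ = _
    rw [show (Fin.cons (0 : zGrp.{u} ⟶ A) (y + y') : Fin (r + 1) → (zGrp.{u} ⟶ A)) = Fin.cons 0 y + Fin.cons 0 y' from
      funext fun i => Fin.cases (by simp) (fun l => by simp) i, skyVec_add, Ext.mk₀_add, Ext.add_comp]
  let ψ := AddMonoidHom.mk' F hadd
  have hconst : ∀ f : zGrp.{u} ⟶ A,
      (Ext.mk₀ (skyVec ξ A zGrp.{u} fun _ => f)).comp hS.extClass (zero_add 1) = 0 := fun f => by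
    rw [← map_toSkies, ← Ext.mk₀_comp_mk₀, Ext.comp_assoc _ _ _ (zero_add 0) (zero_add 1) (by omega)]
    show Ext.comp _ ((Ext.mk₀ S.g).comp hS.extClass _) _ = _
    rw [hS.comp_extClass, Ext.comp_zero]
  refine ⟨(AddEquiv.ofBijective ψ ⟨(injective_iff_map_eq_zero ψ).2 fun y hy => ?_, fun x => ?_⟩).symm⟩
  · obtain ⟨e, he⟩ := Ext.covariant_sequence_exact₃ _ hS
      (Ext.mk₀ (skyVec ξ A zGrp.{u} (Fin.cons (0 : zGrp.{u} ⟶ A) y))) (zero_add 1) hy
    obtain ⟨g, rfl⟩ := (Ext.mk₀_bijective _ _).2 e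
    rw [Ext.mk₀_comp_mk₀] at he
    obtain ⟨f, rfl⟩ := (cst_map_bijective X zGrp.{u} A).2 g
    have h1 := hvec.1 ((map_toSkies ξ A zGrp.{u} f).symm.trans ((Ext.mk₀_bijective _ _).1 he))
    have h0 : f = 0 := congrFun h1 0
    funext l
    exact (congrFun h1 l.succ).symm.trans h0
  · obtain ⟨e, he⟩ := Ext.covariant_sequence_exact₁ _ hS x
      (@Subsingleton.elim _ (hA 0) _ _) (rfl : 0 + 1 = 1)
    obtain ⟨g, rfl⟩ := (Ext.mk₀_bijective _ _).2 e
    obtain ⟨v, rfl⟩ := hvec.2 g
    refine ⟨fun l => v l.succ - v 0, ?_⟩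
    rw [← he]
    show F _ = _
    have hv : v = Fin.cons (0 : zGrp.{u} ⟶ A) (fun l => v l.succ - v 0) + fun _ => v 0 :=
      funext fun i => Fin.cases (by simp) (fun l => by simp) i
    conv_rhs => rw [hv, skyVec_add, Ext.mk₀_add, Ext.add_comp, hconst, add_zero]

/-- homomorphisms from `ℤ` are elements -/
noncomputable def zGrpHomEquiv : (zGrp.{u} ⟶ A) ≃+ A where
  toFun f := f ⟨1⟩
  invFun a := AddCommGrpCat.ofHom ((zmultiplesHom A a).comp (AddEquiv.ulift : ULift.{u + 1} ℤ ≃+ ℤ).toAddMonoidHom)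
  left_inv f := AddCommGrpCat.ext fun m => by
    have hm : m = m.down • (⟨1⟩ : ULift.{u + 1} ℤ) := ULift.ext _ _ (by simp)
    conv_rhs => rw [hm, map_zsmul]
    rfl
  right_inv a := one_zsmul a
  map_add' f g := rfl

end Groth.Agent.Curve11
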