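import Groth.Agent.Curve11.FiniteBirationalH
import Groth.Agent.Curve11.PuncturedH
import Groth.Agent.EtFound.UnivInjPush
import Groth.Agent.GabberAff13.FieldBij
import Mathlib.AlgebraicGeometry.AlgClosed.Basic

/-!
# First cohomology along a finite morphism pinching finitely many points to one
-/

set_option autoImplicit false
universe u

open CategoryTheory CategoryTheory.Limits AlgebraicGeometry Opposite CategoryTheory.Abelian

namespace Groth.Agent.Curve11

open Groth.Agent.EtFound

set_option backward.isDefEq.respectTransparency false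
set_option backward.isDefEq.respectTransparency.types false
set_option linter.style.haveILetI false

variable {X Z : Scheme.{u}} (f : Z ⟶ X) [IsFinite f]

omit [IsFinite f] in
/-- A natural transformation component: the stalk of the unit composed with a lift. -/
theorem bijective_unit_pushStalkAt {Ω : Type u} [Field Ω] [IsAlgClosed Ω]
    {η : Spec (CommRingCat.of Ω) ⟶ X} {ζ : Spec (CommRingCat.of Ω) ⟶ Z} (h : ζ ≫ f = η) (F : EtCoh.Ab X) :
    Function.Bijective ((EtCoh.stalk η).map ((EtCoh.pullPushAdj f).unit.app F) ≫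
      (pushStalkAt f h).app ((EtCoh.pull f).obj F)) := by
  haveI := EtExcision.isIso_unit_pushStalkAt f h F
  exact (ConcreteCategory.isIso_iff_bijective _).1 inferInstance

/-- The unit of a finite surjective morphism is a monomorphism. -/
theorem mono_unit [Surjective f] (F : EtCoh.Ab X) : Mono ((EtCoh.pullPushAdj f).unit.app F) := by
  refine Preadditive.mono_of_kernel_zero ?_
  refine EtFound.eq_of_stalks _ _ fun Ω _ _ η => ?_
  let u := (EtCoh.pullPushAdj f).unit.app F
  let e : Spec (CommRingCat.of (AlgebraicClosure Ω)) ⟶ Spec (CommRingCat.of Ω) :=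
    Spec.map (CommRingCat.ofHom (algebraMap Ω (AlgebraicClosure Ω)))
  obtain ⟨w, hw⟩ := f.surjective ((e ≫ η).base (default : Spec (CommRingCat.of (AlgebraicClosure Ω))))
  obtain ⟨l, hl, -⟩ := exists_fac_of_integral f (e ≫ η) w hw
  haveI : Mono ((EtCoh.stalk (e ≫ η)).map u) := by
    haveI := EtExcision.isIso_unit_pushStalkAt f hl F
    exact mono_of_mono ((EtCoh.stalk (e ≫ η)).map u) ((pushStalkAt f hl).app ((EtCoh.pull f).obj F))
  haveI : Mono ((EtCoh.stalk η).map u) := by
    let β := EtFound.stalkExtIso AddCommGrpCat.{u + 1} η e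
    haveI : Mono ((EtCoh.stalk η).map u ≫ β.hom.app _) := by
      rw [show (EtCoh.stalk η).map u ≫ β.hom.app _ = β.hom.app _ ≫ (EtCoh.stalk (e ≫ η)).map u from
        β.hom.naturality u]
      infer_instance
    exact mono_of_mono ((EtCoh.stalk η).map u) (β.hom.app _)
  show (EtCoh.stalk η).map (kernel.ι u) = (EtCoh.stalk η).map 0
  rw [← cancel_mono ((EtCoh.stalk η).map u), ← Functor.map_comp, ← Functor.map_comp, kernel.condition, zero_comp]

/-- The stalk of `f_* f^* F` has the cardinality of a power of the stalk of `F`. -/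
theorem card_stalk_pushPull {Ω : Type u} [Field Ω] [IsAlgClosed Ω] (η : Spec (CommRingCat.of Ω) ⟶ X)
    (F : EtCoh.Ab X) :
    Nat.card ((EtCoh.stalk η).obj ((EtCoh.push f).obj ((EtCoh.pull f).obj F))) =
      Nat.card ((EtCoh.stalk η).obj F) ^ Nat.card {ξ : Spec (CommRingCat.of Ω) ⟶ Z // ξ ≫ f = η} := by
  haveI := finite_points f η
  haveI := Fintype.ofFinite {ξ : Spec (CommRingCat.of Ω) ⟶ Z // ξ ≫ f = η}
  refine (Nat.card_eq_of_bijective _ (pushStalkAt_bijective f (η := η) ((EtCoh.pull f).obj F))).trans ?_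
  rw [Nat.card_pi]
  refine (Finset.prod_congr rfl (g := fun _ => Nat.card ((EtCoh.stalk η).obj F)) fun ξ _ => ?_).trans ?_
  · haveI := EtExcision.isIso_unit_pushStalkAt f ξ.2 F
    exact (Nat.card_congr ((@asIso _ _ _ _ _ (EtExcision.isIso_unit_pushStalkAt f ξ.2 F)).addCommGroupIsoToAddEquiv.toEquiv)).symm
  · rw [Finset.prod_const, Finset.card_univ, ← Nat.card_eq_fintype_card]

/-- Global sections over an algebraically closed field are the stalk. -/
theorem card_homCst_algClosed {k : Type u} [Field k] [IsAlgClosed k] (G : EtCoh.Ab (Spec (CommRingCat.of k))) :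
    Nat.card ((cst (Spec (CommRingCat.of k))).obj zGrp.{u} ⟶ G) = Nat.card ((EtCoh.stalk (𝟙 _)).obj G) := by
  let t : (Scheme.pointSmallEtale (𝟙 (Spec (CommRingCat.of k)))).fiber.obj (EtCoh.top (Spec (CommRingCat.of k))) :=
    CategoryTheory.Over.homMk (𝟙 _) (Category.comp_id _)
  refine (Nat.card_congr ((EtCore.constAdj _).homEquiv zGrp.{u} G)).trans ?_
  refine (Nat.card_congr (zGrpHomEquiv _).toEquiv).trans ?_
  exact Nat.card_eq_of_bijective _ (GabberAff13.bijective_germ_top (𝟙 _) t G.obj)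

/-- Global sections of a sheaf supported at one rational point are its stalk. -/
theorem card_H0_of_supp_point {k : Type u} [Field k] [IsAlgClosed k] (ξ : Spec (CommRingCat.of k) ⟶ X)
    [IsClosedImmersion ξ] (Q : EtCoh.Ab X)
    (hQ : ∀ (Ω : Type u) (_ : Field Ω) (_ : IsSepClosed Ω) (η : Spec (CommRingCat.of Ω) ⟶ X),
      η.base (default : Spec (CommRingCat.of Ω)) ∉ Set.range ξ.base → IsZero ((EtCoh.stalk η).obj Q)) :
    Nat.card (EtCoh.H X Q 0) = Nat.card ((EtCoh.stalk ξ).obj Q) := by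
  haveI := EtFound.unit_isIso_of_supp ξ Q hQ
  refine (Nat.card_congr Ext.addEquiv₀.toEquiv).trans ?_
  let u := (EtCoh.pullPushAdj ξ).unit.app Q
  refine (Nat.card_congr (Iso.homToEquiv (asIso u))).trans ?_
  refine (Nat.card_congr ((EtCoh.pullPushAdj ξ).homEquiv _ _).symm).trans ?_
  refine (Nat.card_congr (Iso.homFromEquiv ((EtCore.pullConstIso ξ).app zGrp.{u}))).trans ?_
  refine (card_homCst_algClosed _).trans ?_
  exact (Nat.card_congr (((EtFound.sheafFiberPullIso ξ (𝟙 _)).app Q).addCommGroupIsoToAddEquiv.toEquiv)).trans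
    (by simp only [Category.id_comp])

variable [PreservesFiniteLimits (EtCoh.pull f)]

/-- The edge isomorphism from the cohomology of a direct image. -/
theorem Hpull_eq_bijective_comp (F : EtCoh.Ab X) (n : ℕ) :
    ∃ E : EtCoh.H X ((EtCoh.push f).obj ((EtCoh.pull f).obj F)) n → EtCoh.H Z ((EtCoh.pull f).obj F) n,
      Function.Bijective E ∧ ∀ a, EtCore.Hpull f F n a =
        E (a.comp (Ext.mk₀ ((EtCoh.pullPushAdj f).unit.app F)) (add_zero n)) := by
  haveI := EtFound.push_preservesFiniteColimits f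
  haveI := EtFound.push_preservesFiniteLimits f
  have hvan : ∀ q, 1 ≤ q → q ≤ n → IsZero (((EtCoh.push f).rightDerived q).obj ((EtCoh.pull f).obj F)) := by
    intro q hq _
    obtain ⟨m, rfl⟩ : ∃ m, q = m + 1 := ⟨q - 1, by omega⟩
    exact LerayDegen.isZero_rightDerived_of_exact (EtCoh.push f) _ m
  have hedge := (EtFound.edge_bijective_of_vanish (EtCoh.pullPushAdj f) n ((EtCoh.pull f).obj F) hvan
    ((cst X).obj zGrp.{u})).1 n le_rfl
  have hpre : Function.Bijective (fun t : Ext _ ((EtCoh.pull f).obj F) n =>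
      (Ext.mk₀ (EtCore.pullConst f ℤ).inv).comp t (zero_add n)) :=
    Function.bijective_iff_has_inverse.2 ⟨fun t => (Ext.mk₀ (EtCore.pullConst f ℤ).hom).comp t (zero_add _),
      fun t => by simp only; rw [Ext.mk₀_comp_mk₀_assoc, Iso.hom_inv_id, Ext.mk₀_id_comp],
      fun t => by simp only; rw [Ext.mk₀_comp_mk₀_assoc, Iso.inv_hom_id, Ext.mk₀_id_comp]⟩
  exact ⟨_, hpre.comp hedge, fun a => Hpull_eq_edge f F n a⟩

omit [IsFinite f] in
/-- Constant coefficients: global sections do not change along a morphism of connected schemes. -/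
theorem Hpull_zero_cst_bijective [PreconnectedSpace X] [Nonempty X] [PreconnectedSpace Z] [Nonempty Z]
    (A : AddCommGrpCat.{u + 1}) : Function.Bijective (EtCore.Hpull f ((cst X).obj A) 0) := by
  have key : ∀ g : zGrp.{u} ⟶ A, EtCore.Hpull f ((cst X).obj A) 0 (Ext.mk₀ ((cst X).map g)) =
      Ext.mk₀ ((cst Z).map g ≫ (EtCore.pullConstIso f).inv.app A) := fun g => by
    rw [EtMVLib.Hpull_apply, Ext.mapExactFunctor_mk₀, Ext.mk₀_comp_mk₀]
    exact congrArg Ext.mk₀ ((EtCore.pullConstIso f).inv.naturality g).symm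
  have h1 : Function.Bijective fun g : zGrp.{u} ⟶ A => Ext.mk₀ ((cst X).map g) :=
    (Ext.mk₀_bijective _ _).comp (cst_map_bijective X _ _)
  have h2 : Function.Bijective fun g : zGrp.{u} ⟶ A =>
      Ext.mk₀ ((cst Z).map g ≫ (EtCore.pullConstIso f).inv.app A) :=
    (Ext.mk₀_bijective _ _).comp ((Iso.homToEquiv ((EtCore.pullConstIso f).symm.app A)).bijective.comp
      (cst_map_bijective Z _ _))
  refine (Function.Bijective.of_comp_iff (EtCore.Hpull f ((cst X).obj A) 0) h1).1 ?_
  rw [show ⇑(EtCore.Hpull f ((cst X).obj A) 0) ∘ _ = _ from funext key]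
  exact h2

omit [IsFinite f] in
/-- Naturality of pullback on cohomology in the coefficients. -/
theorem Hpull_comp {F G : EtCoh.Ab X} (φ : F ⟶ G) (n : ℕ) (a : EtCoh.H X F n) :
    EtCore.Hpull f G n (a.comp (Ext.mk₀ φ) (add_zero n)) =
      (EtCore.Hpull f F n a).comp (Ext.mk₀ ((EtCoh.pull f).map φ)) (add_zero n) := by
  rw [EtMVLib.Hpull_apply, EtMVLib.Hpull_apply, Ext.mapExactFunctor_comp, Ext.mapExactFunctor_mk₀,
    Ext.comp_assoc_of_third_deg_zero]

/-- A finite morphism pinching two rational points to one: on `H¹` with constant coefficients it is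
surjective and its kernel is as big as the coefficient group. -/
theorem Hpull_one_cst {k : Type u} [Field k] [IsAlgClosed k] (s : X ⟶ Spec (CommRingCat.of k))
    [LocallyOfFiniteType s] [QuasiCompact s] (hdim : topologicalKrullDim X ≤ 1)
    [Surjective f] [PreconnectedSpace X] [Nonempty X] [PreconnectedSpace Z] [Nonempty Z]
    (ξ : Spec (CommRingCat.of k) ⟶ X) [IsClosedImmersion ξ] (W : X.Opens) [IsIso (f ∣_ W)]
    (hW : (W : Set X) = (Set.range ξ.base)ᶜ) (hgen : genericPoints X ⊆ W)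
    (hlifts : Nat.card {p : Spec (CommRingCat.of k) ⟶ Z // p ≫ f = ξ} = 2)
    (A : AddCommGrpCat.{u + 1}) [Finite A] :
    Function.Surjective (EtCore.Hpull f ((cst X).obj A) 1) ∧
      Nat.card (EtCore.Hpull f ((cst X).obj A) 1).ker = Nat.card A := by
  let F := (cst X).obj A
  let u := (EtCoh.pullPushAdj f).unit.app F
  haveI : Mono u := mono_unit f F
  let S := ShortComplex.mk u (cokernel.π u) (cokernel.condition u)
  have hS : S.ShortExact :=
    { exact := ShortComplex.exact_of_g_is_cokernel _ (cokernelIsCokernel _)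
      mono_f := inferInstanceAs (Mono u) }
  have hsupp : ∀ (Ω : Type u) (_ : Field Ω) (_ : IsSepClosed Ω) (η : Spec (CommRingCat.of Ω) ⟶ X),
      η.base (default : Spec (CommRingCat.of Ω)) ∉ Set.range ξ.base → IsZero ((EtCoh.stalk η).obj S.X₃) := by
    intro Ω _ _ η hη
    haveI := isIso_stalk_unit f W F Ω η (by rw [← SetLike.mem_coe, hW]; exact hη)
    exact isZero_stalk_cokernel u η
  haveI hQ1 : Subsingleton (EtCoh.H X S.X₃ 1) :=
    subsingleton_H_of_stalk_generic s hdim S.X₃ (fun Ω _ _ η hη => hsupp Ω _ _ η (by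
      have h1 := hgen hη
      rw [hW] at h1
      exact h1)) 0
  obtain ⟨E₀, hE₀, hE₀'⟩ := Hpull_eq_bijective_comp f F 0
  obtain ⟨E₁, hE₁, hE₁'⟩ := Hpull_eq_bijective_comp f F 1
  have hu0 : Function.Bijective fun a : EtCoh.H X F 0 => a.comp (Ext.mk₀ u) (add_zero 0) := by
    refine (Function.Bijective.of_comp_iff' hE₀ _).1 ?_
    rw [show E₀ ∘ _ = ⇑(EtCore.Hpull f F 0) from funext fun a => (hE₀' a).symm]
    exact Hpull_zero_cst_bijective f A
  refine ⟨fun c => ?_, ?_⟩
  · obtain ⟨b, rfl⟩ := hE₁.2 c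
    obtain ⟨a, ha⟩ := Ext.covariant_sequence_exact₂ _ hS b (@Subsingleton.elim _ hQ1 _ _)
    exact ⟨a, (hE₁' a).trans (congrArg E₁ ha)⟩
  have hker : ∀ a : EtCoh.H X F 1, a ∈ (EtCore.Hpull f F 1).ker ↔ a.comp (Ext.mk₀ S.f) (add_zero 1) = 0 := by
    intro a
    have h0 : E₁ 0 = 0 := (hE₁' 0).symm.trans (map_zero _) |> fun h => by rwa [Ext.zero_comp] at h
    rw [AddMonoidHom.mem_ker, hE₁' a]
    exact ⟨fun h => hE₁.1 (h.trans h0.symm), fun h => (congrArg E₁ h).trans h0⟩
  let δ : EtCoh.H X S.X₃ 0 → (EtCore.Hpull f F 1).ker := fun x => ⟨x.comp hS.extClass (zero_add 1), (hker _).2 (by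
    rw [Ext.comp_assoc_of_third_deg_zero, hS.extClass_comp, Ext.comp_zero])⟩
  have hδ : Function.Bijective δ := by
    refine ⟨fun x y hxy => sub_eq_zero.1 ?_, fun a => ?_⟩
    · have h0 : (x - y).comp hS.extClass (zero_add 1) = 0 := by
        rw [sub_eq_add_neg, Ext.add_comp, Ext.neg_comp, ← sub_eq_add_neg, sub_eq_zero]
        exact congrArg Subtype.val hxy
      obtain ⟨z, hz⟩ := Ext.covariant_sequence_exact₃ _ hS (x - y) (zero_add 1) h0
      obtain ⟨w, rfl⟩ := hu0.2 z
      rw [← hz, Ext.comp_assoc_of_third_deg_zero, Ext.mk₀_comp_mk₀, show u ≫ S.g = 0 from S.zero, Ext.mk₀_zero,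
        Ext.comp_zero]
    · obtain ⟨x, hx⟩ := Ext.covariant_sequence_exact₁ _ hS a.1 ((hker a.1).1 a.2) (zero_add 1)
      exact ⟨x, Subtype.ext hx⟩
  refine (Nat.card_eq_of_bijective δ hδ).symm.trans ?_
  rw [card_H0_of_supp_point ξ S.X₃ hsupp]
  let t : (Scheme.pointSmallEtale ξ).fiber.obj (EtCoh.top X) := CategoryTheory.Over.homMk ξ (Category.comp_id _)
  have hA : Nat.card ((EtCoh.stalk ξ).obj S.X₁) = Nat.card A :=
    (Nat.card_eq_of_bijective _ (cSec_germ_bijective (A := A) ξ (EtCoh.top X) t)).symm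
  have hSt := hS.map_of_exact (EtCoh.stalk ξ)
  haveI := hSt.mono_f
  haveI := hSt.epi_g
  let a : (EtCoh.stalk ξ).obj S.X₁ →+ (EtCoh.stalk ξ).obj S.X₂ := ((EtCoh.stalk ξ).map S.f).hom
  let b : (EtCoh.stalk ξ).obj S.X₂ →+ (EtCoh.stalk ξ).obj S.X₃ := ((EtCoh.stalk ξ).map S.g).hom
  have hb : Function.Surjective b := (AddCommGrpCat.epi_iff_surjective _).1 hSt.epi_g
  have ha : Function.Injective a := (AddCommGrpCat.mono_iff_injective _).1 hSt.mono_f
  have hab : a.range = b.ker := (S.map (EtCoh.stalk ξ)).ab_exact_iff_range_eq_ker.1 hSt.exact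
  have hcard := AddSubgroup.card_eq_card_quotient_mul_card_addSubgroup b.ker
  rw [Nat.card_congr (QuotientAddGroup.quotientKerEquivOfSurjective b hb).toEquiv, ← hab,
    ← Nat.card_congr (AddMonoidHom.ofInjective ha).toEquiv,
    show Nat.card ((EtCoh.stalk ξ).obj S.X₂) = Nat.card ((EtCoh.stalk ξ).obj S.X₁) ^ 2 from
      (card_stalk_pushPull f ξ F).trans (congrArg _ hlifts), hA, sq] at hcard
  exact (Nat.eq_of_mul_eq_mul_right Nat.card_pos hcard).symm

end Groth.Agent.Curve11
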