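import Groth.Agent.NodeFam.Node

/-!
# Nodes over an algebraically closed field
-/

set_option autoImplicit false
set_option linter.style.haveILetI false
set_option backward.isDefEq.respectTransparency false
set_option backward.isDefEq.respectTransparency.types false

universe u

open CategoryTheory CategoryTheory.Limits AlgebraicGeometry

namespace Groth.Agent.Curve11

/-- A node over an algebraically closed field is an ordinary double point of its own local ring. -/
theorem odp_of_isNode {X : Scheme.{u}} {k : Type u} [Field k] [IsAlgClosed k] [X.Over (Spec (CommRingCat.of k))]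
    [LocallyOfFiniteType (X ↘ Spec (CommRingCat.of k))] {p : X} (hn : Curv2.IsNode k X p) :
    @Curv2.IsOrdDoublePt k _ (X.presheaf.stalk p) _ (@Curv2.stalkAlgebra k _ X _ p) _ := by
  haveI : IsAlgClosure k k := ⟨inferInstance, inferInstance⟩
  obtain ⟨-, z, hz, hodp⟩ := (NodeFam.isNode_iff_nodeVia k p).1 hn
  haveI : IsIso (NodeFam.extMap k k) := inferInstanceAs (IsIso (Spec.map (𝟙 (CommRingCat.of k))))
  let π := pullback.fst (X ↘ Spec (CommRingCat.of k)) (NodeFam.extMap k k)
  have h := (NodeFam.odpAt_iff_of_stalk_iso π (X ↘ Spec (CommRingCat.of k))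
    (pullback.snd (X ↘ Spec (CommRingCat.of k)) (NodeFam.extMap k k)) (RingEquiv.refl k)
    pullback.condition z (ConcreteCategory.bijective_of_isIso (π.stalkMap z))).2 hodp
  subst hz
  exact h

end Groth.Agent.Curve11
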