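import Groth.Agent.Curve11.SuppVanish
import Groth.Agent.EtMVLib.MV
import Groth.Agent.EtFound.PullStalk
import Groth.Agent.PicExtendPts.Glue
import Groth.Agent.AmpleX.Sect
import Groth.Agent.SchTop.ZeroDim
import Groth.Agent.S0217
import Groth.Agent.S0219

/-!
# Restriction to an open is surjective on cohomology of curves when affine opens have none
-/

set_option autoImplicit false
universe u

open CategoryTheory CategoryTheory.Limits AlgebraicGeometry Opposite TopologicalSpace

namespace Groth.Agent.Curve11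

set_option backward.isDefEq.respectTransparency false
set_option backward.isDefEq.respectTransparency.types false
set_option linter.style.haveILetI false

variable {X : Scheme.{u}}

/-- The trace on an affine open of a piece of a disjoint decomposition is affine. -/
theorem isAffineOpen_inf_of_disjoint {A U W : X.Opens} (hUW : U ⊓ W = ⊥) (h : IsAffineOpen (A ⊓ (U ⊔ W))) :
    IsAffineOpen (A ⊓ U) := by
  let O : X.Opens := A ⊓ (U ⊔ W)
  haveI : IsAffine O.toScheme := h
  have hd : ∀ x : X, x ∈ U → x ∈ W → False := fun x h1 h2 => by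
    have : x ∈ (U ⊓ W : X.Opens) := ⟨h1, h2⟩
    rw [hUW] at this
    exact this.elim
  have hc : IsClopen ((O.ι ⁻¹ᵁ U : O.toScheme.Opens) : Set O.toScheme) := by
    refine ⟨?_, (O.ι ⁻¹ᵁ U).isOpen⟩
    rw [← isOpen_compl_iff]
    convert (O.ι ⁻¹ᵁ W).isOpen using 1
    ext z
    refine ⟨fun hz => ?_, fun hz hz' => hd _ hz' hz⟩
    rcases z.2.2 with h1 | h1
    · exact absurd h1 hz
    · exact h1
  have h2 := ((SchTop.isAffineOpen_inf_of_isClopen (isAffineOpen_top O.toScheme) hc)).image_of_isOpenImmersion O.ι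
  convert h2 using 1
  rw [top_inf_eq, Scheme.Hom.image_preimage_eq_opensRange_inf, Scheme.Opens.opensRange_ι]
  exact le_antisymm (le_inf (le_inf inf_le_left (inf_le_right.trans le_sup_left)) inf_le_right)
    (le_inf (inf_le_left.trans inf_le_left) inf_le_right)

/-- An open of a separated Noetherian scheme of dimension one is covered together with another one
meeting it in an affine open. -/
theorem exists_sup_eq_top_affine_inf [X.IsSeparated] [AlgebraicGeometry.IsNoetherian X]
    (hdim : topologicalKrullDim X ≤ 1) (U : X.Opens) :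
    ∃ V : X.Opens, U ⊔ V = ⊤ ∧ IsAffineOpen (U ⊓ V) := by
  classical
  let W : X.Opens := ⟨(closure (U : Set X))ᶜ, isClosed_closure.isOpen_compl⟩
  have hUW : U ⊓ W = ⊥ := le_bot_iff.1 fun x hx => absurd (subset_closure hx.1) hx.2
  let U' : X.Opens := U ⊔ W
  have hgen : ∀ η ∈ genericPoints X, η ∈ U' := by
    intro η hη
    by_contra h
    have h1 : η ∈ closure (U : Set X) := by
      by_contra h'
      exact h (Or.inr h')
    let O : Set X := (⋃₀ (irreducibleComponents X \ {closure {η}}))ᶜ
    have hO : IsOpen O :=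
      ((NoetherianSpace.finite_irreducibleComponents.sdiff).isClosed_biUnion
        fun Z hZ => isClosed_of_mem_irreducibleComponents Z hZ.1 :
          IsClosed (⋃ Z ∈ irreducibleComponents X \ {closure {η}}, Z)) |>.isOpen_compl |> fun h => by
        simpa [O, Set.sUnion_eq_biUnion] using h
    have hηO : η ∈ O := by
      rintro ⟨Z, ⟨hZ, hne⟩, hηZ⟩
      refine hne (Set.mem_singleton_iff.2 ?_)
      have hsub : closure {η} ⊆ Z :=
        (isClosed_of_mem_irreducibleComponents Z hZ).closure_subset_iff.2 (Set.singleton_subset_iff.2 hηZ)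
      exact le_antisymm (hη.2 hZ.1 hsub) hsub
    obtain ⟨z, hzO, hzU⟩ := mem_closure_iff.1 h1 O hO hηO
    have hz : z ∈ closure ({η} : Set X) := by
      have hc := irreducibleComponent_mem_irreducibleComponents z
      by_contra h'
      exact hzO ⟨_, ⟨hc, fun he => h' (Set.mem_singleton_iff.1 he ▸ mem_irreducibleComponent)⟩,
        mem_irreducibleComponent⟩
    exact h (Or.inl ((specializes_iff_mem_closure.2 hz).mem_open U.isOpen hzU))
  have hcl : ∀ x : X, x ∉ U' → IsClosed ({x} : Set X) := fun x hx =>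
    EtDiv.isClosed_of_notMem_genericPoints hdim fun hg => hx (hgen x hg)
  haveI : NoetherianSpace ↥((U' : Set X)ᶜ) := NoetherianSpace.set _
  haveI : QuasiSober ↥((U' : Set X)ᶜ) :=
    (IsClosed.isClosedEmbedding_subtypeVal U'.isOpen.isClosed_compl).quasiSober
  haveI : Finite ↥((U' : Set X)ᶜ) := S0219.finite_of_forall_isClosed fun a => by
    have : ({a} : Set ↥((U' : Set X)ᶜ)) = Subtype.val ⁻¹' {a.1} := by ext z; simp [Subtype.ext_iff]
    rw [this]
    exact (hcl a.1 a.2).preimage continuous_subtype_val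
  haveI : T1Space ↥((U' : Set X)ᶜ) := ⟨fun a => by
    have : ({a} : Set ↥((U' : Set X)ᶜ)) = Subtype.val ⁻¹' {a.1} := by ext z; simp [Subtype.ext_iff]
    rw [this]
    exact (hcl a.1 a.2).preimage continuous_subtype_val⟩
  have hloc : ∀ x : X, x ∉ U' → IsNoetherianRing (X.presheaf.stalk x) ∧ ringKrullDim (X.presheaf.stalk x) ≤ 1 :=
    fun x _ => ⟨inferInstance, (SchTop.ringKrullDim_stalk_le x).trans hdim⟩
  haveI : Fintype ↥((U' : Set X)ᶜ) := Fintype.ofFinite _
  obtain ⟨A, hA, hAm⟩ := S0217.result X (fun O _ => NoetherianSpace.finite_irreducibleComponents)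
    ((U' : Set X)ᶜ).toFinset fun x hx => hloc x (Set.mem_toFinset.1 hx)
  obtain ⟨L, s, hL, hs⟩ := PicExtendPts.exists_section U' inferInstance hloc
  have haff : IsAffineOpen (A ⊓ U') := by
    rw [← hs, AmpleX.genLocus_eq_locus]
    exact AmpleX.isAffineOpen_inf_locus hL hA _ le_top
  refine ⟨A ⊔ W, eq_top_iff.2 fun x _ => ?_, ?_⟩
  · by_cases hx : x ∈ U'
    · rcases hx with h | h
      · exact Or.inl h
      · exact Or.inr (Or.inr h)
    · exact Or.inr (Or.inl (hAm x (Set.mem_toFinset.2 hx)))
  · rw [inf_sup_left, hUW, sup_bot_eq, inf_comm]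
    exact isAffineOpen_inf_of_disjoint hUW haff

/-- If affine opens have no cohomology in degree `n`, restriction to an open is surjective. -/
theorem Hpull_open_surjective [X.IsSeparated] [AlgebraicGeometry.IsNoetherian X]
    (hdim : topologicalKrullDim X ≤ 1) (F : EtCoh.Ab X) (n : ℕ)
    (hA : ∀ O : X.Opens, IsAffineOpen O → Subsingleton (EtCoh.H O.toScheme ((EtCoh.pull O.ι).obj F) n))
    (U : X.Opens) [PreservesFiniteLimits (EtCoh.pull U.ι)] :
    Function.Surjective (EtCore.Hpull U.ι F n) := by
  obtain ⟨V, hUV, haff⟩ := exists_sup_eq_top_affine_inf hdim U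
  haveI := EtFound.pull_preservesFiniteLimits V.ι
  haveI := EtFound.pull_preservesFiniteLimits (X.homOfLE (inf_le_left : U ⊓ V ≤ U))
  haveI := EtFound.pull_preservesFiniteLimits (X.homOfLE (inf_le_right : U ⊓ V ≤ V))
  haveI := hA _ haff
  obtain ⟨δ, -, -, h3, -⟩ := EtMVLib.mayerVietoris X U V hUV F
  intro a
  have hm : (a, (0 : EtCoh.H V.toScheme ((EtCoh.pull V.ι).obj F) n)) ∈
      (AddMonoidHom.prod (EtCore.Hpull U.ι F n) (EtCore.Hpull V.ι F n)).range := by
    rw [← h3 n]
    exact AddMonoidHom.mem_ker.2 (Subsingleton.elim _ _)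
  obtain ⟨b, hb⟩ := hm
  exact ⟨b, congrArg Prod.fst hb⟩

end Groth.Agent.Curve11
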