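import Groth.Agent.Curve11.TorsionTwo
import Groth.Agent.EtDiv.ClosedTorsion
import Mathlib.Algebra.Homology.DerivedCategory.Ext.ExactSequences

/-!
# Sheaves with no stalks at generic points of curves
-/

set_option autoImplicit false
universe u

open CategoryTheory CategoryTheory.Limits AlgebraicGeometry Opposite CategoryTheory.Abelian

namespace Groth.Agent.Curve11

open Groth.Agent.EtFound Groth.Agent.EtTrace Groth.Agent.EtDiv Groth.Agent.EtLC12 Groth.Agent.EtMVLib
  Groth.Agent.MorLib.Birat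

set_option backward.isDefEq.respectTransparency false
set_option backward.isDefEq.respectTransparency.types false
set_option linter.style.haveILetI false

variable {X : Scheme.{u}}

theorem mem_genericPoints_of_max {x : X} (h : ∀ y : X, y ⤳ x → y = x) : x ∈ genericPoints X := by
  obtain ⟨y, hy, hyx⟩ := exists_generic (X := X) x
  exact h y hyx ▸ hy

theorem isZero_stalk_kernel {F G : EtCoh.Ab X} (φ : F ⟶ G) {Ω : Type u} [Field Ω] [IsSepClosed Ω]
    (ξ : Spec (CommRingCat.of Ω) ⟶ X) [IsIso ((EtCoh.stalk ξ).map φ)] :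
    IsZero ((EtCoh.stalk ξ).obj (kernel φ)) := by
  refine (IsZero.iff_id_eq_zero _).2 ?_
  rw [← cancel_mono ((EtCoh.stalk ξ).map (kernel.ι φ)), ← cancel_mono ((EtCoh.stalk ξ).map φ), zero_comp,
    zero_comp, Category.id_comp, ← Functor.map_comp, kernel.condition, Functor.map_zero]

theorem isZero_stalk_cokernel {F G : EtCoh.Ab X} (φ : F ⟶ G) {Ω : Type u} [Field Ω] [IsSepClosed Ω]
    (ξ : Spec (CommRingCat.of Ω) ⟶ X) [IsIso ((EtCoh.stalk ξ).map φ)] :
    IsZero ((EtCoh.stalk ξ).obj (cokernel φ)) := by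
  refine (IsZero.iff_id_eq_zero _).2 ?_
  rw [← cancel_epi ((EtCoh.stalk ξ).map (cokernel.π φ)), ← cancel_epi ((EtCoh.stalk ξ).map φ), comp_zero,
    comp_zero, Category.comp_id, ← Functor.map_comp, cokernel.condition, Functor.map_zero]

section Vanish

variable {k : Type u} [Field k] [IsSepClosed k] (s : X ⟶ Spec (CommRingCat.of k))
  [LocallyOfFiniteType s] [QuasiCompact s]

include s in
theorem subsingleton_H_of_stalk_generic (hdim : topologicalKrullDim X ≤ 1) (G : EtCoh.Ab X)
    (hG : ∀ (Ω : Type u) [Field Ω] [IsSepClosed Ω] (ξ : Spec (CommRingCat.of Ω) ⟶ X),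
      ξ.base (default : Spec (CommRingCat.of Ω)) ∈ genericPoints X → IsZero ((EtCoh.stalk ξ).obj G))
    (n : ℕ) : Subsingleton (EtCoh.H X G (n + 1)) := by
  haveI : IsLocallyNoetherian X := LocallyOfFiniteType.isLocallyNoetherian s
  haveI : CompactSpace X := QuasiCompact.compactSpace_of_compactSpace s
  haveI : AlgebraicGeometry.IsNoetherian X := ⟨⟩
  refine S0171.result X s _ (fun x hx => ?_) (n + 1) n.succ_pos
  obtain ⟨Ω, _, _, ξ, hξ, hne⟩ := hx
  have he : ξ.base (default : Spec (CommRingCat.of Ω)) = x := by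
    have h := Set.mem_range_self (f := ξ.base) (default : Spec (CommRingCat.of Ω))
    rw [hξ] at h
    exact h
  exact isClosed_of_notMem_genericPoints hdim fun hgen => hne (hG Ω ξ (he.symm ▸ hgen))

variable {F G : EtCoh.Ab X} (φ : F ⟶ G)
  (hφ : ∀ (Ω : Type u) [Field Ω] [IsSepClosed Ω] (ξ : Spec (CommRingCat.of Ω) ⟶ X),
      ξ.base (default : Spec (CommRingCat.of Ω)) ∈ genericPoints X → IsIso ((EtCoh.stalk ξ).map φ))

include s hφ in
theorem subsingleton_H_kernel (hdim : topologicalKrullDim X ≤ 1) (n : ℕ) :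
    Subsingleton (EtCoh.H X (kernel φ) (n + 1)) :=
  subsingleton_H_of_stalk_generic s hdim _ (fun Ω _ _ ξ hξ => by haveI := hφ Ω ξ hξ; exact isZero_stalk_kernel φ ξ) n

include s hφ in
theorem subsingleton_H_cokernel (hdim : topologicalKrullDim X ≤ 1) (n : ℕ) :
    Subsingleton (EtCoh.H X (cokernel φ) (n + 1)) :=
  subsingleton_H_of_stalk_generic s hdim _ (fun Ω _ _ ξ hξ => by haveI := hφ Ω ξ hξ; exact isZero_stalk_cokernel φ ξ) n

omit [IsSepClosed k] in
theorem shortExact_kernel_image :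
    (ShortComplex.mk (kernel.ι φ) (Abelian.factorThruImage φ)
      ((cancel_mono (Abelian.image.ι φ)).1 (by rw [Category.assoc, Abelian.image.fac, kernel.condition, zero_comp]))).ShortExact :=
  { exact := ShortComplex.exact_of_f_is_kernel _ (KernelFork.IsLimit.ofι' (kernel.ι φ) _ fun {W} g hg =>
      ⟨kernel.lift φ g (by rw [← Abelian.image.fac φ, ← Category.assoc, hg, zero_comp]), kernel.lift_ι _ _ _⟩) }

omit [IsSepClosed k] in
theorem shortExact_image_cokernel :
    (ShortComplex.mk (Abelian.image.ι φ) (cokernel.π φ) (kernel.condition (cokernel.π φ))).ShortExact :=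
  { exact := ShortComplex.exact_of_f_is_kernel _ (kernelIsKernel (cokernel.π φ)) }

include s hφ in
/-- Generic isomorphisms are bijective on cohomology above degree one. -/
theorem comp_bijective (hdim : topologicalKrullDim X ≤ 1) (n : ℕ) :
    Function.Bijective (fun a : EtCoh.H X F (n + 2) => a.comp (Ext.mk₀ φ) (add_zero (n + 2))) := by
  have h1 := shortExact_kernel_image φ
  have h2 := shortExact_image_cokernel φ
  have hc : ∀ a : EtCoh.H X F (n + 2), a.comp (Ext.mk₀ φ) (add_zero (n + 2)) =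
      (a.comp (Ext.mk₀ (Abelian.factorThruImage φ)) (add_zero (n + 2))).comp
        (Ext.mk₀ (Abelian.image.ι φ)) (add_zero (n + 2)) := fun a => by
    rw [Ext.comp_assoc_of_third_deg_zero, Ext.mk₀_comp_mk₀, Abelian.image.fac]
  refine ⟨fun a b hab => sub_eq_zero.1 ?_, fun c => ?_⟩
  · have hab' : (a - b).comp (Ext.mk₀ φ) (add_zero (n + 2)) = 0 := by
      rw [sub_eq_add_neg, Ext.add_comp, Ext.neg_comp, add_neg_eq_zero]; exact hab
    rw [hc] at hab'
    obtain ⟨c, hc'⟩ := Ext.covariant_sequence_exact₁ _ h2 _ hab' (rfl : n + 1 + 1 = n + 2)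
    rw [@Subsingleton.elim _ (subsingleton_H_cokernel s φ hφ hdim n) c 0, Ext.zero_comp] at hc'
    obtain ⟨d, hd⟩ := Ext.covariant_sequence_exact₂ _ h1 _ hc'.symm
    rw [← hd, @Subsingleton.elim _ (subsingleton_H_kernel s φ hφ hdim (n + 1)) d 0, Ext.zero_comp]
  · obtain ⟨b, hb⟩ := Ext.covariant_sequence_exact₂ _ h2 c
      (@Subsingleton.elim _ (subsingleton_H_cokernel s φ hφ hdim (n + 1)) _ _)
    obtain ⟨a, ha⟩ := Ext.covariant_sequence_exact₃ _ h1 b (rfl : n + 2 + 1 = n + 3)
      (@Subsingleton.elim _ (subsingleton_H_kernel s φ hφ hdim (n + 2)) _ _)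
    exact ⟨a, by show a.comp (Ext.mk₀ φ) (add_zero (n + 2)) = c; rw [hc]; exact (congrArg (fun t : EtCoh.H X (Abelian.image φ) (n + 2) =>
      t.comp (Ext.mk₀ (Abelian.image.ι φ)) (add_zero (n + 2))) ha).trans hb⟩

include s hφ in
theorem comp_bijective_one (hdim : topologicalKrullDim X ≤ 1) [Epi φ] :
    Function.Bijective (fun a : EtCoh.H X F 1 => a.comp (Ext.mk₀ φ) (add_zero 1)) := by
  let S := ShortComplex.mk (kernel.ι φ) φ (kernel.condition φ)
  have hS : S.ShortExact := { exact := ShortComplex.exact_of_f_is_kernel _ (kernelIsKernel φ) }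
  refine ⟨fun a b hab => sub_eq_zero.1 ?_, fun c => ?_⟩
  · have hab' : (a - b).comp (Ext.mk₀ φ) (add_zero 1) = 0 := by
      rw [sub_eq_add_neg, Ext.add_comp, Ext.neg_comp, add_neg_eq_zero]; exact hab
    obtain ⟨d, hd⟩ := Ext.covariant_sequence_exact₂ _ hS _ hab'
    rw [← hd, @Subsingleton.elim _ (subsingleton_H_kernel s φ hφ hdim 0) d 0, Ext.zero_comp]
  · exact Ext.covariant_sequence_exact₃ _ hS c (rfl : 1 + 1 = 2)
      (@Subsingleton.elim _ (subsingleton_H_kernel s φ hφ hdim 1) _ _)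

end Vanish

section Torsion

variable {k : Type u} [Field k] [IsAlgClosed k] (s : X ⟶ Spec (CommRingCat.of k))
  [LocallyOfFiniteType s] [QuasiCompact s]

include s in
/-- Cohomology of curves is torsion above degree one, for every sheaf. -/
theorem exists_nsmul_H_curve (hdim : topologicalKrullDim X ≤ 1) (F : EtCoh.Ab X) (n : ℕ)
    (a : EtCoh.H X F (n + 2)) : ∃ N : ℕ, 0 < N ∧ N • a = 0 := by
  classical
  haveI : IsLocallyNoetherian X := LocallyOfFiniteType.isLocallyNoetherian s
  haveI : CompactSpace X := QuasiCompact.compactSpace_of_compactSpace s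
  haveI : AlgebraicGeometry.IsNoetherian X := ⟨⟩
  let f := fun η : Gen X => (EtCoh.push (X.fromSpecResidueField η.1)).obj
      ((EtCoh.pull (X.fromSpecResidueField η.1)).obj F)
  have hinj := (comp_bijective s (genUnit F) (fun Ω _ _ ξ hξ => isIso_stalk_genUnit F ξ hξ) hdim n).1
  let b := a.comp (Ext.mk₀ (genUnit F)) (add_zero (n + 2))
  choose N hN h using fun η : Gen X => exists_nsmul_H_skyPush η.1 _ (show 1 ≤ n + 2 by omega)
    (b.comp (Ext.mk₀ (biproduct.π f η)) (add_zero (n + 2)))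
  refine ⟨∏ η, N η, Finset.prod_pos fun η _ => hN η, hinj ?_⟩
  show ((∏ η, N η) • a).comp (Ext.mk₀ (genUnit F)) (add_zero (n + 2)) =
    Ext.comp 0 (Ext.mk₀ (genUnit F)) (add_zero (n + 2))
  rw [Ext.zero_comp, nsmul_comp_mk₀]
  show (∏ η, N η) • b = 0
  rw [← Ext.comp_mk₀_id ((∏ η, N η) • b), show 𝟙 (⨁ f) = ∑ η, biproduct.π f η ≫ biproduct.ι f η from
    biproduct.hom_ext _ _ fun j => by
      rw [Category.id_comp, Preadditive.sum_comp, Finset.sum_eq_single j]
      · exact ((Category.assoc _ _ _).trans ((congrArg _ (biproduct.ι_π_self f j)).trans (Category.comp_id _))).symm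
      · exact fun x _ hx => (Category.assoc _ _ _).trans ((congrArg _ (biproduct.ι_π_ne f hx)).trans comp_zero)
      · exact fun h => absurd (Finset.mem_univ j) h, Ext.mk₀_sum, Ext.comp_sum]
  refine Finset.sum_eq_zero fun η _ => ?_
  rw [← Ext.mk₀_comp_mk₀, ← Ext.comp_assoc_of_third_deg_zero, nsmul_comp_mk₀]
  obtain ⟨c, hc⟩ := Finset.dvd_prod_of_mem N (Finset.mem_univ η)
  rw [hc, mul_comm, mul_nsmul', h η, nsmul_zero, Ext.zero_comp]

include s in
theorem subsingleton_H_of_divisible (hdim : topologicalKrullDim X ≤ 1) (F : EtCoh.Ab X)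
    (hdiv : ∀ n : ℕ, 0 < n → IsIso (n • 𝟙 F)) (n : ℕ) : Subsingleton (EtCoh.H X F (n + 2)) := by
  refine subsingleton_of_forall_eq 0 fun a => ?_
  obtain ⟨N, hN, ha⟩ := exists_nsmul_H_curve s hdim F n a
  haveI := hdiv N hN
  rw [nsmul_eq_comp] at ha
  exact (postcomp_bijective (N • 𝟙 F) (n + 2)).1 (ha.trans (Ext.zero_comp _ _ _ _ _).symm)

end Torsion

end Groth.Agent.Curve11
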