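import Groth.Agent.Curve11.ConstSections
import Groth.Agent.Curve11.SuppVanish

/-!
# Cohomology of a constant sheaf extended by zero from the complement of finitely many points
-/

set_option autoImplicit false
universe u

open CategoryTheory CategoryTheory.Limits AlgebraicGeometry Opposite CategoryTheory.Abelian

namespace Groth.Agent.Curve11

open Groth.Agent.EtFound Groth.Agent.EtTrace Groth.Agent.EtLC12

set_option backward.isDefEq.respectTransparency false
set_option backward.isDefEq.respectTransparency.types false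
set_option linter.style.haveILetI false

/-- the constant sheaf functor -/
noncomputable abbrev cst (X : Scheme.{u}) : AddCommGrpCat.{u + 1} ⥤ EtCoh.Ab X :=
  constantSheaf X.smallEtaleTopology AddCommGrpCat.{u + 1}

/-- the group of integers in the universe of the coefficients -/
noncomputable abbrev zGrp : AddCommGrpCat.{u + 1} := AddCommGrpCat.of (ULift.{u + 1} ℤ)

/-- On a connected scheme, the constant sheaf functor is fully faithful. -/
theorem cst_map_bijective (X : Scheme.{u}) [PreconnectedSpace X] [Nonempty X] (A B : AddCommGrpCat.{u + 1}) :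
    Function.Bijective (fun f : A ⟶ B => (cst X).map f) := by
  haveI : IsIso ((EtCore.constAdj X).unit.app B) :=
    (ConcreteCategory.isIso_iff_bijective _).2 (constAdj_unit_bijective X B)
  have e : ((EtCore.constAdj X).homEquiv A ((cst X).obj B)) ∘ (fun f : A ⟶ B => (cst X).map f) =
      fun f => f ≫ (EtCore.constAdj X).unit.app B := funext fun f => by
    show (EtCore.constAdj X).homEquiv A _ ((cst X).map f) = _
    rw [Adjunction.homEquiv_unit]
    exact ((EtCore.constAdj X).unit.naturality f).symm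
  refine (Function.Bijective.of_comp_iff' ((EtCore.constAdj X).homEquiv A ((cst X).obj B)).bijective _).1 ?_
  rw [e]
  exact ⟨fun a b h => (cancel_mono _).1 h, fun g => ⟨g ≫ inv ((EtCore.constAdj X).unit.app B), by simp⟩⟩

section Point

variable {k : Type u} [Field k] {X : Scheme.{u}} (ξ : Spec (CommRingCat.of k) ⟶ X)

/-- a constant skyscraper -/
noncomputable abbrev sky (A : AddCommGrpCat.{u + 1}) : EtCoh.Ab X :=
  (EtCoh.push ξ).obj ((cst _).obj A)

/-- restriction of constants to a point -/
noncomputable def toSky (A : AddCommGrpCat.{u + 1}) : (cst X).obj A ⟶ sky ξ A :=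
  (EtCoh.pullPushAdj ξ).homEquiv _ _ ((EtCore.pullConstIso ξ).hom.app A)

theorem map_toSky {A B : AddCommGrpCat.{u + 1}} (f : A ⟶ B) :
    (cst X).map f ≫ toSky ξ B = (EtCoh.pullPushAdj ξ).homEquiv _ _
      ((EtCore.pullConstIso ξ).hom.app A ≫ (cst _).map f) := by
  rw [toSky, ← Adjunction.homEquiv_naturality_left]
  exact congrArg _ ((EtCore.pullConstIso ξ).hom.naturality f)

theorem map_toSky_bijective [PreconnectedSpace X] (A B : AddCommGrpCat.{u + 1}) :
    Function.Bijective (fun f : A ⟶ B => (cst X).map f ≫ toSky ξ B) := by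
  simp only [map_toSky]
  refine ((EtCoh.pullPushAdj ξ).homEquiv _ _).bijective.comp (Function.Bijective.comp
    ⟨fun a b h => (cancel_epi _).1 h, fun g => ⟨(EtCore.pullConstIso ξ).inv.app A ≫ g,
      Iso.hom_inv_id_app_assoc _ _ _⟩⟩ (cst_map_bijective (Spec (CommRingCat.of k)) A B))

theorem isIso_stalk_toSky [IsClosedImmersion ξ] (A : AddCommGrpCat.{u + 1})
    {Ω : Type u} [Field Ω] [IsSepClosed Ω] (p : Spec (CommRingCat.of Ω) ⟶ X)
    (hp : p.base (default : Spec (CommRingCat.of Ω)) ∈ Set.range ξ.base) :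
    IsIso ((EtCoh.stalk p).map (toSky ξ A)) := by
  rw [toSky, Adjunction.homEquiv_unit, Functor.map_comp]
  haveI := isIso_stalk_unit_closed ξ ((cst X).obj A) p hp
  haveI : IsIso ((EtCoh.push ξ).map ((EtCore.pullConstIso ξ).hom.app A)) := Functor.map_isIso _ _
  haveI := Functor.map_isIso (EtCoh.stalk p) ((EtCoh.push ξ).map ((EtCore.pullConstIso ξ).hom.app A))
  exact IsIso.comp_isIso' (isIso_stalk_unit_closed ξ ((cst X).obj A) p hp) inferInstance

theorem range_eq_default : Set.range ξ.base = {ξ.base (default : Spec (CommRingCat.of k))} := by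
  ext x
  exact ⟨fun ⟨a, ha⟩ => ha ▸ congrArg ξ.base (Subsingleton.elim _ _), fun h => ⟨default, h.symm⟩⟩

end Point

section Points

variable {k : Type u} [Field k] {X : Scheme.{u}} {n : ℕ}
  (ξ : Fin n → (Spec (CommRingCat.of k) ⟶ X)) (A : AddCommGrpCat.{u + 1})

/-- the product of the skyscrapers -/
noncomputable abbrev skies : EtCoh.Ab X := ⨁ fun i => sky (ξ i) A

/-- restriction of constants to the points -/
noncomputable def toSkies : (cst X).obj A ⟶ skies ξ A := biproduct.lift fun i => toSky (ξ i) A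

theorem toSkies_π (i : Fin n) : toSkies ξ A ≫ biproduct.π _ i = toSky (ξ i) A :=
  biproduct.lift_π (fun i => toSky (ξ i) A) i

variable [∀ i, IsClosedImmersion (ξ i)]

theorem isZero_stalk_sky (i : Fin n) {Ω : Type u} [Field Ω] [IsSepClosed Ω]
    (p : Spec (CommRingCat.of Ω) ⟶ X) (hp : p.base (default : Spec (CommRingCat.of Ω)) ∉ Set.range (ξ i).base) :
    IsZero ((EtCoh.stalk p).obj (sky (ξ i) A)) :=
  isZero_stalk_push_closed (ξ i) _ p hp

theorem isZero_stalk_skies {Ω : Type u} [Field Ω] [IsSepClosed Ω]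
    (p : Spec (CommRingCat.of Ω) ⟶ X)
    (hp : ∀ i, p.base (default : Spec (CommRingCat.of Ω)) ∉ Set.range (ξ i).base) :
    IsZero ((EtCoh.stalk p).obj (skies ξ A)) := by
  haveI : (EtCoh.stalk p).Additive := Functor.additive_of_preserves_binary_products _
  rw [IsZero.iff_id_eq_zero, ← CategoryTheory.Functor.map_id, ← biproduct.total, Functor.map_sum]
  refine Finset.sum_eq_zero fun i _ => ?_
  refine ((EtCoh.stalk p).map_comp _ _).trans ?_
  rw [(isZero_stalk_sky ξ A i p (hp i)).eq_of_tgt ((EtCoh.stalk p).map (biproduct.π (fun i => sky (ξ i) A) i)) 0, zero_comp]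

theorem isIso_stalk_π (hξ : Function.Injective fun i => (ξ i).base (default : Spec (CommRingCat.of k)))
    (i : Fin n) {Ω : Type u} [Field Ω] [IsSepClosed Ω]
    (p : Spec (CommRingCat.of Ω) ⟶ X)
    (hp : p.base (default : Spec (CommRingCat.of Ω)) ∈ Set.range (ξ i).base) :
    IsIso ((EtCoh.stalk p).map (biproduct.π (fun i => sky (ξ i) A) i)) := by
  haveI : (EtCoh.stalk p).Additive := Functor.additive_of_preserves_binary_products _
  refine ⟨(EtCoh.stalk p).map (biproduct.ι (fun i => sky (ξ i) A) i), ?_, ?_⟩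
  · conv_rhs => rw [← CategoryTheory.Functor.map_id, ← biproduct.total, Functor.map_sum]
    rw [Finset.sum_eq_single i (fun l _ hl => ?_) (fun h => absurd (Finset.mem_univ i) h), Functor.map_comp]
    refine ((EtCoh.stalk p).map_comp _ _).trans ?_
    rw [(isZero_stalk_sky ξ A l p fun h => hl (hξ ?_)).eq_of_tgt
      ((EtCoh.stalk p).map (biproduct.π (fun i => sky (ξ i) A) l)) 0, zero_comp]
    rw [range_eq_default] at h hp
    exact h.symm.trans hp
  · rw [← Functor.map_comp, biproduct.ι_π_self, CategoryTheory.Functor.map_id]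

theorem isIso_stalk_toSkies (hξ : Function.Injective fun i => (ξ i).base (default : Spec (CommRingCat.of k)))
    (i : Fin n) {Ω : Type u} [Field Ω] [IsSepClosed Ω]
    (p : Spec (CommRingCat.of Ω) ⟶ X)
    (hp : p.base (default : Spec (CommRingCat.of Ω)) ∈ Set.range (ξ i).base) :
    IsIso ((EtCoh.stalk p).map (toSkies ξ A)) := by
  haveI := isIso_stalk_π ξ A hξ i p hp
  haveI := isIso_stalk_toSky (ξ i) A p hp
  have e : (EtCoh.stalk p).map (toSkies ξ A) ≫ (EtCoh.stalk p).map (biproduct.π _ i) =
      (EtCoh.stalk p).map (toSky (ξ i) A) := by rw [← Functor.map_comp, toSkies_π]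
  exact IsIso.of_isIso_fac_right e

theorem subsingleton_H_skies {K : Type u} [Field K] [IsSepClosed K] (s : X ⟶ Spec (CommRingCat.of K))
    [LocallyOfFiniteType s] [QuasiCompact s] (q : ℕ) : Subsingleton (EtCoh.H X (skies ξ A) (q + 1)) := by
  refine S0171.result X s _ (fun x hx => ?_) (q + 1) q.succ_pos
  obtain ⟨Ω, _, _, p, hp, hne⟩ := hx
  have he : p.base (default : Spec (CommRingCat.of Ω)) = x := by
    have h := Set.mem_range_self (f := p.base) (default : Spec (CommRingCat.of Ω))
    rw [hp] at h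
    exact h
  by_contra hx
  refine hne (isZero_stalk_skies ξ A p fun i hi => hx ?_)
  rw [range_eq_default, he, Set.mem_singleton_iff] at hi
  rw [hi, ← range_eq_default]
  exact (ξ i).isClosedEmbedding.isClosed_range

variable {U : Scheme.{u}} (j : U ⟶ X) [IsOpenImmersion j] [AlgebraicGeometry.Etale j] [EtShriek.JCont j]

/-- `0 → j_! j⁻¹ A → A → ⊕ skyscrapers → 0` -/
theorem punctured_shortExact (hξ : Function.Injective fun i => (ξ i).base (default : Spec (CommRingCat.of k)))
    (hU : Set.range j.base = (⋃ i, Set.range (ξ i).base)ᶜ) :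
    ∃ w : (EtShriek.extZeroAdj j).counit.app ((cst X).obj A) ≫ toSkies ξ A = 0,
      (ShortComplex.mk _ _ w).ShortExact := by
  set c := (EtShriek.extZeroAdj j).counit.app ((cst X).obj A)
  have hin : ∀ {Ω : Type u} [Field Ω] [IsSepClosed Ω] (p : Spec (CommRingCat.of Ω) ⟶ X),
      (∀ i, p.base (default : Spec (CommRingCat.of Ω)) ∉ Set.range (ξ i).base) →
      IsIso ((EtCoh.stalk p).map c) ∧ IsZero ((EtCoh.stalk p).obj (skies ξ A)) :=
    fun p h => ⟨isIso_stalk_of_lift j _ p (by rw [hU, Set.mem_compl_iff, Set.mem_iUnion, not_exists]; exact h)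
      fun k _ _ z => isIso_counit_stalk j z _, isZero_stalk_skies ξ A p h⟩
  have hout : ∀ {Ω : Type u} [Field Ω] [IsSepClosed Ω] (p : Spec (CommRingCat.of Ω) ⟶ X),
      (¬ ∀ i, p.base (default : Spec (CommRingCat.of Ω)) ∉ Set.range (ξ i).base) →
      IsZero ((EtCoh.stalk p).obj ((EtShriek.extZero j).obj ((EtShriek.restrAlong j).obj ((cst X).obj A)))) ∧
      IsIso ((EtCoh.stalk p).map (toSkies ξ A)) := fun p h => by
    simp only [not_forall, not_not] at h
    obtain ⟨i, hi⟩ := h
    exact ⟨isZero_stalk_extZero j p (by rw [hU]; exact fun h' => h' (Set.mem_iUnion.2 ⟨i, hi⟩)) _,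
      isIso_stalk_toSkies ξ A hξ i p hi⟩
  have w : c ≫ toSkies ξ A = 0 := by
    refine eq_of_stalks _ _ fun Ω _ _ p => ?_
    by_cases h : ∀ i, p.base (default : Spec (CommRingCat.of Ω)) ∉ Set.range (ξ i).base
    · exact (hin p h).2.eq_of_tgt _ _
    · exact (hout p h).1.eq_of_src _ _
  refine ⟨w, ShortComplex.ShortExact.mk' ?_ ?_ ?_⟩
  · refine (exact_iff_stalks _).2 fun Ω _ _ p => ?_
    by_cases h : ∀ i, p.base (default : Spec (CommRingCat.of Ω)) ∉ Set.range (ξ i).base
    · obtain ⟨h1, h0⟩ := hin p h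
      exact (ShortComplex.exact_iff_epi _ (h0.eq_of_tgt _ _)).2 (@IsIso.epi_of_iso _ _ _ _ _ h1)
    · obtain ⟨h0, h1⟩ := hout p h
      exact (ShortComplex.exact_iff_mono _ (h0.eq_of_src _ _)).2 (@IsIso.mono_of_iso _ _ _ _ _ h1)
  · refine (mono_iff_stalks _).2 fun Ω _ _ p => ?_
    by_cases h : ∀ i, p.base (default : Spec (CommRingCat.of Ω)) ∉ Set.range (ξ i).base
    · exact ((ConcreteCategory.isIso_iff_bijective _).1 (hin p h).1).1
    · exact fun a b _ => @Subsingleton.elim _ (AddCommGrpCat.subsingleton_of_isZero (hout p h).1) a b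
  · refine (epi_iff_stalks _).2 fun Ω _ _ p => ?_
    by_cases h : ∀ i, p.base (default : Spec (CommRingCat.of Ω)) ∉ Set.range (ξ i).base
    · exact fun b => ⟨0, @Subsingleton.elim _ (AddCommGrpCat.subsingleton_of_isZero (hin p h).2) _ _⟩
    · exact ((ConcreteCategory.isIso_iff_bijective _).1 (hout p h).2).2

end Points

end Groth.Agent.Curve11
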