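import Groth.Agent.Curve11.GmCoh
import Groth.Agent.RatCoh13.LiftLoc
import Groth.Agent.S0148
import Groth.Agent.EtFound.PushOutside
import Groth.Agent.GabberAff13.BigDesc.Main

/-!
# Torsion cohomology of schemes of dimension at most one over an algebraically closed field
-/

set_option autoImplicit false
universe u

open CategoryTheory CategoryTheory.Limits AlgebraicGeometry Opposite CategoryTheory.Abelian

namespace Groth.Agent.Curve11

open Groth.Agent.EtFound Groth.Agent.EtTrace Groth.Agent.EtDiv Groth.Agent.EtLC12 Groth.Agent.EtMVLib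
  Groth.Agent.MorLib.Birat

set_option backward.isDefEq.respectTransparency false
set_option backward.isDefEq.respectTransparency.types false
set_option linter.style.haveILetI false

variable {X Z : Scheme.{u}}

/-- Direct images have zero stalks outside the closure of the image. -/
theorem isZero_stalk_push_of_notMem (f : Z ⟶ X) {C : Set X} (hC : IsClosed C) (hf : Set.range f.base ⊆ C)
    (G : EtCoh.Ab Z) {Ω : Type u} [Field Ω] [IsSepClosed Ω] (ξ : Spec (CommRingCat.of Ω) ⟶ X)
    (hξ : ξ.base (default : Spec (CommRingCat.of Ω)) ∉ C) :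
    IsZero ((EtCoh.stalk ξ).obj ((EtCoh.push f).obj G)) := by
  obtain ⟨h⟩ := nonempty_unique_stalk hC ((EtCoh.push f).obj G)
    (fun V hV => push_unique_of_disjoint f G V (hV.mono_right hf)) ξ hξ
  haveI : Subsingleton ((EtCoh.stalk ξ).obj ((EtCoh.push f).obj G)) :=
    ⟨fun a b => (h.eq_default a).trans (h.eq_default b).symm⟩
  exact AddCommGrpCat.isZero_of_subsingleton _

/-- An algebraically closed field has cohomological dimension zero. -/
theorem cohDimLE_algClosed (k : Type u) [Field k] [IsAlgClosed k] :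
    EtCoh.CohDimLE (Spec (CommRingCat.of k)) 0 := by
  intro F _ q hq
  obtain ⟨n, rfl⟩ : ∃ n, q = n + 1 := ⟨q - 1, by omega⟩
  refine subsingleton_of_forall_eq 0 fun a => ?_
  obtain ⟨L, _, _, _, _, hL⟩ := exists_killing_field (K := k) F n a
  have h1 : Module.finrank k L = 1 :=
    (LinearEquiv.ofBijective (Algebra.linearMap k L)
      ⟨(algebraMap k L).injective, IsSepClosed.algebraMap_surjective _ L⟩).finrank_eq.symm.trans
      (Module.finrank_self _)
  have h := nsmul_eq_zero a hL
  rwa [h1, one_nsmul] at h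

section Field

variable (k : Type u) [Field k] [IsAlgClosed k] {K : Type u} [Field K] [Algebra k K]

theorem cohDimLE_one (hK : Algebra.trdeg k K ≤ 1) : EtCoh.CohDimLE (Spec (CommRingCat.of K)) 1 := by
  have h := S0148.result k K 0 1 (cohDimLE_algClosed k) (by simpa using hK)
  simpa using h

theorem subsingleton_ext_torsion_field (hK : Algebra.trdeg k K ≤ 1) {G : EtCoh.Ab (Spec (CommRingCat.of K))}
    (hG : EtCoh.IsTorsion G) (W : (Spec (CommRingCat.of K)).Etale) [CompactSpace W.left] (n : ℕ) :
    Subsingleton (Ext.{u + 1} (freeOn W) G (n + 2)) := by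
  refine subsingleton_ext_of_points _ (n + 2) (fun L _ _ _ _ => ?_) W
  letI : Algebra k L := ((algebraMap K L).comp (algebraMap k K)).toAlgebra
  haveI : IsScalarTower k K L := IsScalarTower.of_algebraMap_eq' rfl
  have hL : Algebra.trdeg k L ≤ 1 := by
    rwa [← trdeg_add_eq k K, trdeg_eq_zero (R := K) (A := L), add_zero]
  haveI : AlgebraicGeometry.Etale (obj K L).hom := (obj K L).prop
  haveI : PreservesFiniteLimits (EtCoh.pull (obj K L).hom) := pull_preservesFiniteLimits (obj K L).hom
  haveI : IsIso (𝟙 (obj K L).left) := IsIso.id _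
  have hs : Subsingleton (EtCoh.H (obj K L).left ((EtCoh.pull (obj K L).hom).obj G) (n + 2)) :=
    cohDimLE_one k hL _ (GabberAff13.BigDesc.isTorsion_pull (obj K L).hom hG) (n + 2) (by omega)
  exact ⟨fun a b => (ptMap_bijective (obj K L).hom (obj K L) (𝟙 _) (Category.id_comp _) G (n + 2)).1
    (@Subsingleton.elim _ hs _ _)⟩

end Field

section Push

variable {k : Type u} [Field k] [IsAlgClosed k] (s : X ⟶ Spec (CommRingCat.of k))
  [LocallyOfFiniteType s] [QuasiCompact s]

include s in
/-- Direct images of torsion sheaves from generic points have no cohomology above two. -/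
theorem subsingleton_H_push_residue (hdim : topologicalKrullDim X ≤ 1) {η : X} (hη : η ∈ genericPoints X)
    {G : EtCoh.Ab (Spec (X.residueField η))} (hG : EtCoh.IsTorsion G) (q : ℕ) :
    Subsingleton (EtCoh.H X ((EtCoh.push (X.fromSpecResidueField η)).obj G) (q + 3)) := by
  haveI : IsLocallyNoetherian X := LocallyOfFiniteType.isLocallyNoetherian s
  haveI : CompactSpace X := QuasiCompact.compactSpace_of_compactSpace s
  haveI : AlgebraicGeometry.IsNoetherian X := ⟨⟩
  let i := X.fromSpecResidueField η
  haveI := quasiCompact_fromSpecResidueField η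
  haveI : QuasiSeparated i := QuasiSeparated.of_comp _ (terminal.from X)
  letI : Algebra k (X.residueField η) := (VarDim.resHom s η).toAlgebra
  have hK : Algebra.trdeg k (X.residueField η) ≤ 1 := by
    show VarDim.tdeg s η ≤ 1
    rw [← VarDim.deg_eq_tdeg]
    have h := VarDim.topologicalKrullDim_eq_iSup_deg s
    have h1 : ((VarDim.deg s η : ℕ∞) : WithBot ℕ∞) ≤ 1 :=
      (le_iSup (fun x : X => ((VarDim.deg s x : ℕ∞) : WithBot ℕ∞)) η).trans (h ▸ hdim)
    have h2 : VarDim.deg s η ≤ 1 := by exact_mod_cast h1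
    exact_mod_cast h2
  have hcd := cohDimLE_one k hK
  let P := EtCoh.push i
  haveI : PreservesFiniteLimits P := push_preservesFiniteLimits i
  haveI : PreservesFiniteLimits (EtCoh.pull i) := pull_preservesFiniteLimits i
  obtain ⟨S₀, hS₀, hI, rfl⟩ : ∃ S : ShortComplex (EtCoh.Ab (Spec (X.residueField η))),
      S.ShortExact ∧ Injective S.X₂ ∧ S.X₁ = G :=
    ⟨injSES G, injSES_shortExact G, inferInstanceAs (Injective (Injective.under G)), rfl⟩
  have hacy : IsQcqsAcyclic S₀.X₃ := fun W hW n => by
    haveI : CompactSpace W.left := hW.1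
    exact subsingleton_ext_of_dimShift hS₀ (subsingleton_ext_torsion_field k hK hG W n)
  have hH : ∀ n : ℕ, Subsingleton (EtCoh.H (Spec (X.residueField η)) S₀.X₃ (n + 1)) := fun n =>
    subsingleton_ext_of_dimShift hS₀ (hcd _ hG (n + 1 + 1) (by omega))
  haveI : Mono (P.map S₀.f) := by
    haveI := hS₀.mono_f
    infer_instance
  let S₁ := ShortComplex.mk (P.map S₀.f) (cokernel.π _) (cokernel.condition (P.map S₀.f))
  have hS₁ : S₁.ShortExact := { exact := ShortComplex.exact_of_g_is_cokernel _ (cokernelIsCokernel _) }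
  haveI : Injective S₁.X₂ := Injective.injective_of_adjoint (EtCoh.pullPushAdj i) S₀.X₂
  have hex : (S₀.map P).Exact := by
    have h := ((Functor.preservesFiniteLimits_tfae P).out 3 0 rfl rfl).1 ‹_›
    exact (h S₀ hS₀).1
  let j : cokernel (P.map S₀.f) ⟶ P.obj S₀.X₃ := cokernel.desc (P.map S₀.f) (P.map S₀.g) (S₀.map P).zero
  haveI : Mono j := hex.mono_cokernelDesc
  let S₂ := ShortComplex.mk j (cokernel.π j) (cokernel.condition j)
  have hS₂ : S₂.ShortExact := { exact := ShortComplex.exact_of_g_is_cokernel _ (cokernelIsCokernel _) }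
  have hR : Subsingleton (EtCoh.H X (cokernel j) (q + 1)) := by
    refine S0171.result X s _ (fun x hx => ?_) (q + 1) q.succ_pos
    obtain ⟨Ω, _, _, ξ, hξ, hne⟩ := hx
    have he : ξ.base (default : Spec (CommRingCat.of Ω)) = x := by
      have h := Set.mem_range_self (f := ξ.base) (default : Spec (CommRingCat.of Ω))
      rw [hξ] at h
      exact h
    refine isClosed_of_notMem_genericPoints hdim fun hgen => hne ?_
    have hepi : Epi ((EtCoh.stalk ξ).map (P.map S₀.g)) := by
      by_cases hx' : x = η
      · haveI := hS₀.epi_g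
        refine epi_stalk_push_of_mem η ξ (he.trans hx') S₀.g
      · haveI := isZero_stalk_push_of_notMem i (C := closure {η}) isClosed_closure (by
          rw [Scheme.range_fromSpecResidueField]; exact subset_closure) S₀.X₃ ξ (by
          rw [he]
          exact fun h => hx' (eq_of_specializes_generic hgen (specializes_iff_mem_closure.2 h)).symm)
        exact ⟨fun a b _ => this.eq_of_src a b⟩
    have hje : Epi ((EtCoh.stalk ξ).map j) := by
      refine @epi_of_epi _ _ _ _ _ ((EtCoh.stalk ξ).map (cokernel.π (P.map S₀.f))) _ ?_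
      rw [← Functor.map_comp]
      show Epi ((EtCoh.stalk ξ).map (cokernel.π _ ≫ cokernel.desc (P.map S₀.f) (P.map S₀.g) _))
      rw [cokernel.π_desc]
      exact hepi
    refine (IsZero.iff_id_eq_zero _).2 ?_
    rw [← CategoryTheory.Functor.map_id]
    have h1 : (EtCoh.stalk ξ).map (cokernel.π j) = 0 := by
      rw [← cancel_epi ((EtCoh.stalk ξ).map j), ← Functor.map_comp, cokernel.condition, Functor.map_zero, comp_zero]
    haveI : Epi ((EtCoh.stalk ξ).map (cokernel.π j)) := inferInstance
    rw [← cancel_epi ((EtCoh.stalk ξ).map (cokernel.π j)), comp_zero, h1, zero_comp]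
  have hC : Subsingleton (EtCoh.H X (cokernel (P.map S₀.f)) (q + 2)) := by
    refine subsingleton_of_forall_eq 0 fun a => ?_
    have h2 : a.comp (Ext.mk₀ j) (add_zero (q + 2)) = 0 :=
      @Subsingleton.elim _ (subsingleton_H_push_of_acyclic i (q + 1) _ hacy hH) _ _
    obtain ⟨c, rfl⟩ := Ext.covariant_sequence_exact₁ _ hS₂ a h2 (rfl : q + 1 + 1 = q + 2)
    rw [@Subsingleton.elim _ hR c 0, Ext.zero_comp]
  refine subsingleton_of_forall_eq 0 fun a => ?_
  obtain ⟨c, rfl⟩ := Ext.covariant_sequence_exact₁ _ hS₁ a (Ext.eq_zero_of_injective _) (rfl : q + 2 + 1 = q + 3)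
  rw [@Subsingleton.elim _ hC c 0, Ext.zero_comp]
where
  epi_stalk_push_of_mem {X : Scheme.{u}} (η : X) {Ω : Type u} [Field Ω] [IsSepClosed Ω]
      (ξ : Spec (CommRingCat.of Ω) ⟶ X) (hξ : ξ.base (default : Spec (CommRingCat.of Ω)) = η)
      {G G' : EtCoh.Ab (Spec (X.residueField η))} (g : G ⟶ G') [Epi g] :
      Epi ((EtCoh.stalk ξ).map ((EtCoh.push (X.fromSpecResidueField η)).map g)) := by
    let i := X.fromSpecResidueField η
    obtain ⟨Ω', _, _, z, e, he⟩ := exists_lift_extension i ξ ⟨default, (Scheme.fromSpecResidueField_apply _ _).trans hξ.symm⟩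
    have := counit_isIso (A := AddCommGrpCat.{u + 1}) i (RatCoh13.liftable_fromSpecResidueField η) G'
    have := counit_isIso (A := AddCommGrpCat.{u + 1}) i (RatCoh13.liftable_fromSpecResidueField η) G
    haveI : Epi ((EtCoh.pull i).map ((EtCoh.push i).map g)) := by
      have h := (EtCoh.pullPushAdj i).counit.naturality g
      haveI : IsIso ((EtCoh.pullPushAdj i).counit.app G) := ‹_›
      haveI : IsIso ((EtCoh.pullPushAdj i).counit.app G') :=
        counit_isIso (A := AddCommGrpCat.{u + 1}) i (RatCoh13.liftable_fromSpecResidueField η) G'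
      have e1 : (EtCoh.pull i).map ((EtCoh.push i).map g) =
          (EtCoh.pullPushAdj i).counit.app G ≫ g ≫ inv ((EtCoh.pullPushAdj i).counit.app G') := by
        rw [← Category.assoc, IsIso.eq_comp_inv]; exact h
      rw [e1]
      infer_instance
    haveI : Epi (((EtCoh.pull i) ⋙ EtCoh.stalk z).map ((EtCoh.push i).map g)) :=
      inferInstanceAs (Epi ((EtCoh.stalk z).map ((EtCoh.pull i).map ((EtCoh.push i).map g))))
    haveI : Epi ((EtCoh.stalk (z ≫ i)).map ((EtCoh.push i).map g)) :=
      epi_map_of_natIso (sheafFiberPullIso (A := AddCommGrpCat.{u + 1}) i z) _ ‹_›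
    rw [← he] at this
    exact epi_map_of_natIso (stalkExtIso AddCommGrpCat.{u + 1} ξ e).symm _ ‹_›
  epi_map_of_natIso {A B : Type (u + 2)} [Category.{u + 1} A] [Category.{u + 1} B] {F F' : A ⥤ B} (e : F ≅ F')
      {a b : A} (f : a ⟶ b) (h : Epi (F.map f)) : Epi (F'.map f) := by
    rw [← NatIso.naturality_1 e f]
    infer_instance

end Push

end Groth.Agent.Curve11
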