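import Groth.Agent.Curve11.TorsionCd

/-!
# Cohomological dimension two for curves over an algebraically closed field
-/

set_option autoImplicit false
universe u

open CategoryTheory CategoryTheory.Limits AlgebraicGeometry Opposite CategoryTheory.Abelian

namespace Groth.Agent.Curve11

open Groth.Agent.EtFound Groth.Agent.EtTrace Groth.Agent.EtDiv Groth.Agent.EtLC12 Groth.Agent.EtMVLib
  Groth.Agent.MorLib.Birat

set_option backward.isDefEq.respectTransparency false
set_option backward.isDefEq.respectTransparency.types false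
set_option linter.style.haveILetI false

variable {X : Scheme.{u}} [AlgebraicGeometry.IsNoetherian X]

/-- The unit into the sheaves at the generic points. -/
noncomputable abbrev genUnit (F : EtCoh.Ab X) :
    F ⟶ ⨁ fun η : Gen X => (EtCoh.push (X.fromSpecResidueField η.1)).obj
      ((EtCoh.pull (X.fromSpecResidueField η.1)).obj F) :=
  biproduct.lift fun η => (EtCoh.pullPushAdj (X.fromSpecResidueField η.1)).unit.app F

theorem isIso_stalk_genUnit (F : EtCoh.Ab X) {Ω : Type u} [Field Ω] [IsSepClosed Ω]
    (ξ : Spec (CommRingCat.of Ω) ⟶ X) (hξ : ξ.base (default : Spec (CommRingCat.of Ω)) ∈ genericPoints X) :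
    IsIso ((EtCoh.stalk ξ).map (genUnit F)) := by
  classical
  let η : Gen X := ⟨_, hξ⟩
  let f := fun η : Gen X => (EtCoh.push (X.fromSpecResidueField η.1)).obj
      ((EtCoh.pull (X.fromSpecResidueField η.1)).obj F)
  let st := EtCoh.stalk ξ
  haveI : (EtCoh.stalk ξ).Additive := Functor.additive_of_preserves_binary_products _
  haveI : st.Additive := ‹_›
  have hz : ∀ η' : Gen X, η' ≠ η → IsZero (st.obj (f η')) := fun η' h => by
    refine isZero_stalk_push_of_notMem (X.fromSpecResidueField η'.1) (C := closure {η'.1}) isClosed_closure (by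
      rw [Scheme.range_fromSpecResidueField]; exact subset_closure) _ ξ fun h' => h ?_
    exact Subtype.ext (eq_of_specializes_generic hξ (specializes_iff_mem_closure.2 h'))
  have h1 : st.map (biproduct.π f η) ≫ st.map (biproduct.ι f η) = 𝟙 _ := by
    rw [← CategoryTheory.Functor.map_id, show 𝟙 (⨁ f) = ∑ η, biproduct.π f η ≫ biproduct.ι f η from
      biproduct.hom_ext _ _ fun j => by
        rw [Category.id_comp, Preadditive.sum_comp, Finset.sum_eq_single j]
        · exact ((Category.assoc _ _ _).trans ((congrArg _ (biproduct.ι_π_self f j)).trans (Category.comp_id _))).symm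
        · exact fun x _ hx => (Category.assoc _ _ _).trans ((congrArg _ (biproduct.ι_π_ne f hx)).trans comp_zero)
        · exact fun h => absurd (Finset.mem_univ j) h, Functor.map_sum, Finset.sum_eq_single η]
    · rw [Functor.map_comp]
    · intro x _ hx
      rw [Functor.map_comp, (hz x hx).eq_of_tgt (st.map (biproduct.π f x)) 0, zero_comp]
    · exact fun h => absurd (Finset.mem_univ η) h
  haveI : IsIso (st.map (biproduct.π f η)) :=
    ⟨st.map (biproduct.ι f η), h1, by rw [← Functor.map_comp, biproduct.ι_π_self, CategoryTheory.Functor.map_id]⟩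
  haveI : IsIso (st.map (genUnit F) ≫ st.map (biproduct.π f η)) := by
    rw [← Functor.map_comp, biproduct.lift_π]
    exact RatCoh13.isIso_stalk_unit_point η.1 F ξ rfl
  exact IsIso.of_isIso_comp_right (st.map (genUnit F)) (st.map (biproduct.π f η))

variable {k : Type u} [Field k] [IsAlgClosed k] (s : X ⟶ Spec (CommRingCat.of k))
  [LocallyOfFiniteType s] [QuasiCompact s]

include s in
/-- Torsion sheaves have no cohomology above twice the dimension. -/
theorem cohDimLE_two (hdim : topologicalKrullDim X ≤ 1) : EtCoh.CohDimLE X 2 := by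
  classical
  intro F hF p hp
  obtain ⟨q, rfl⟩ : ∃ q, p = q + 3 := ⟨p - 3, by omega⟩
  let u := genUnit F
  let f := fun η : Gen X => (EtCoh.push (X.fromSpecResidueField η.1)).obj
      ((EtCoh.pull (X.fromSpecResidueField η.1)).obj F)
  have hsupp : ∀ G : EtCoh.Ab X, (∀ (Ω : Type u) [Field Ω] [IsSepClosed Ω] (ξ : Spec (CommRingCat.of Ω) ⟶ X),
      ξ.base (default : Spec (CommRingCat.of Ω)) ∈ genericPoints X → IsZero ((EtCoh.stalk ξ).obj G)) →
      ∀ n : ℕ, Subsingleton (EtCoh.H X G (n + 1)) := by
    intro G hG n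
    refine S0171.result X s _ (fun x hx => ?_) (n + 1) n.succ_pos
    obtain ⟨Ω, _, _, ξ, hξ, hne⟩ := hx
    have he : ξ.base (default : Spec (CommRingCat.of Ω)) = x := by
      have h := Set.mem_range_self (f := ξ.base) (default : Spec (CommRingCat.of Ω))
      rw [hξ] at h
      exact h
    exact isClosed_of_notMem_genericPoints hdim fun hgen => hne (hG Ω ξ (he.symm ▸ hgen))
  let S₁ := ShortComplex.mk (kernel.ι u) (Abelian.factorThruImage u)
    ((cancel_mono (Abelian.image.ι u)).1 (by rw [Category.assoc, Abelian.image.fac, kernel.condition, zero_comp]))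
  have hS₁ : S₁.ShortExact :=
    { exact := by
        refine ShortComplex.exact_of_f_is_kernel _ ?_
        exact KernelFork.IsLimit.ofι' (kernel.ι u) _ fun {W} g hg =>
          ⟨kernel.lift u g (by rw [← Abelian.image.fac u, ← Category.assoc, hg, zero_comp]), kernel.lift_ι _ _ _⟩ }
  let S₂ := ShortComplex.mk (Abelian.image.ι u) (cokernel.π u) (kernel.condition (cokernel.π u))
  have hS₂ : S₂.ShortExact :=
    { exact := ShortComplex.exact_of_f_is_kernel _ (kernelIsKernel (cokernel.π u)) }
  have hK : Subsingleton (EtCoh.H X (kernel u) (q + 3)) := hsupp _ (fun Ω _ _ ξ hξ => by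
    haveI := isIso_stalk_genUnit F ξ hξ
    refine (IsZero.iff_id_eq_zero _).2 ?_
    rw [← cancel_mono ((EtCoh.stalk ξ).map (kernel.ι u)), ← cancel_mono ((EtCoh.stalk ξ).map u), zero_comp,
      zero_comp, Category.id_comp, ← Functor.map_comp, kernel.condition, Functor.map_zero]) (q + 2)
  have hQ : Subsingleton (EtCoh.H X (cokernel u) (q + 2)) := hsupp _ (fun Ω _ _ ξ hξ => by
    haveI := isIso_stalk_genUnit F ξ hξ
    refine (IsZero.iff_id_eq_zero _).2 ?_
    rw [← cancel_epi ((EtCoh.stalk ξ).map (cokernel.π u)), ← cancel_epi ((EtCoh.stalk ξ).map u), comp_zero,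
      comp_zero, Category.comp_id, ← Functor.map_comp, cokernel.condition, Functor.map_zero]) (q + 1)
  refine subsingleton_of_forall_eq 0 fun a => ?_
  have h0 : (a.comp (Ext.mk₀ S₁.g) (add_zero (q + 3))).comp (Ext.mk₀ S₂.f) (add_zero (q + 3)) = 0 := by
    show (a.comp (Ext.mk₀ (Abelian.factorThruImage u)) _).comp (Ext.mk₀ (Abelian.image.ι u)) _ = 0
    rw [Ext.comp_assoc_of_third_deg_zero, Ext.mk₀_comp_mk₀, Abelian.image.fac,
      ← Ext.comp_mk₀_id (a.comp _ _), show 𝟙 (⨁ f) = ∑ η, biproduct.π f η ≫ biproduct.ι f η from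
      biproduct.hom_ext _ _ fun j => by
        rw [Category.id_comp, Preadditive.sum_comp, Finset.sum_eq_single j]
        · exact ((Category.assoc _ _ _).trans ((congrArg _ (biproduct.ι_π_self f j)).trans (Category.comp_id _))).symm
        · exact fun x _ hx => (Category.assoc _ _ _).trans ((congrArg _ (biproduct.ι_π_ne f hx)).trans comp_zero)
        · exact fun h => absurd (Finset.mem_univ j) h, Ext.mk₀_sum, Ext.comp_sum]
    refine Finset.sum_eq_zero fun η _ => ?_
    have hη : Subsingleton (EtCoh.H X (f η) (q + 3)) :=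
      subsingleton_H_push_residue s hdim η.2 (GabberAff13.BigDesc.isTorsion_pull _ hF) q
    rw [← Ext.mk₀_comp_mk₀, ← Ext.comp_assoc_of_third_deg_zero,
      @Subsingleton.elim _ hη ((a.comp (Ext.mk₀ u) (add_zero (q + 3))).comp
        (Ext.mk₀ (biproduct.π f η)) (add_zero (q + 3))) 0, Ext.zero_comp]
  obtain ⟨c, hc⟩ := Ext.covariant_sequence_exact₁ _ hS₂ _ h0 (rfl : q + 2 + 1 = q + 3)
  rw [@Subsingleton.elim _ hQ c 0, Ext.zero_comp] at hc
  obtain ⟨b, rfl⟩ := Ext.covariant_sequence_exact₂ _ hS₁ a hc.symm
  rw [@Subsingleton.elim _ hK b 0, Ext.zero_comp]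

end Groth.Agent.Curve11
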